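import Cfsg.Agent.Lib.Lie.Chev.G2EvenRep
import Cfsg.Agent.Lib.Lie.Chev.FieldAut
import Cfsg.Agent.Lib.Lie.Chev.G2FourMult.Data
import Cfsg.Agent.S1055
import Cfsg.Agent.S1059

/-! G₂(4) on the 4096 vectors of its six-dimensional module. -/

set_option autoImplicit false
set_option maxRecDepth 100000
set_option maxHeartbeats 4000000

open Matrix Cfsg.Lie Cfsg.Agent.Spor.Cos Cfsg.Agent.Lie.Chev
open scoped commutatorElement
open Cfsg.Agent.Lie.Chev.G2Six (K4 M6 mm R6 stepR forceR forceR_eq vecMul_mm)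

namespace Cfsg.Agent.Lie.G2FourMult

/-- The group. -/
abbrev G4 : Type := ↥(chevG2.group K4)

/-- Vectors. -/
abbrev W6 : Type := Fin 6 → K4

/-- The representation. -/
noncomputable def ρU : G4 →* M6ˣ := (G2Six.exists_hom (F := K4) (RingEquiv.refl K4)).choose

/-- The matrix. -/
noncomputable def ρ : G4 →* M6 := (Units.coeHom M6).comp ρU

/-- A root element. -/
noncomputable def rel1 (r : Fin 12) (t : K4) : G4 := ⟨certFullG2.xg r.val t, certFullG2.xg_mem_group r.2 t⟩

theorem ρ_rel1 (r : Fin 12) (t : K4) : ρ (rel1 r t) = mm r.val t :=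
  (G2Six.exists_hom (F := K4) (RingEquiv.refl K4)).choose_spec r t (rel1 r t) rfl

theorem simple : IsSimpleGroup G4 ∧ ¬ IsMulCommutative G4 :=
  Cfsg.Agent.S1055.result (F := K4) ⟨Cfsg.Agent.Spor.Cos.F4.w, by decide, by decide⟩

theorem perfect : commutator G4 = ⊤ := by
  haveI := simple.1
  refine ((inferInstance : (commutator G4).Normal).eq_bot_or_eq_top).resolve_left fun h => simple.2 ?_
  refine ⟨⟨fun a b => ?_⟩⟩
  have hab : ⁅a, b⁆ ∈ commutator G4 := Subgroup.commutator_mem_commutator (Subgroup.mem_top _) (Subgroup.mem_top _)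
  rw [h, Subgroup.mem_bot] at hab
  exact commutatorElement_eq_one_iff_mul_comm.1 hab

theorem ρ_injective : Function.Injective ρ := by
  haveI := simple.1
  rw [← MonoidHom.ker_eq_bot_iff]
  refine (ρ.normal_ker.eq_bot_or_eq_top).resolve_right fun ht => ?_
  have hx : rel1 3 .w ∈ ρ.ker := ht ▸ Subgroup.mem_top _
  rw [MonoidHom.mem_ker, ρ_rel1] at hx
  exact absurd hx (by decide +kernel)

/-- The vector of a number. -/
def vec (n : ℕ) : W6 := fun i => Cfsg.Agent.Spor.Cos.F4.toF (n / 4 ^ (i : ℕ) % 4)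

/-- The number of a vector. -/
def num (v : W6) : ℕ :=
  (v 0).code + 4 * (v 1).code + 16 * (v 2).code + 64 * (v 3).code + 256 * (v 4).code + 1024 * (v 5).code

theorem num_lt (v : W6) : num v < 4096 := by
  have h : ∀ a : K4, a.code < 4 := Cfsg.Agent.Spor.Cos.F4.code_lt
  have := h (v 0); have := h (v 1); have := h (v 2); have := h (v 3); have := h (v 4); have := h (v 5)
  unfold num; omega

theorem vec_num (v : W6) : vec (num v) = v := by
  have h : ∀ a : K4, a.code < 4 := Cfsg.Agent.Spor.Cos.F4.code_lt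
  obtain ⟨a, b, c, d, g, k, rfl⟩ : ∃ a b c d g k, v = ![a, b, c, d, g, k] :=
    ⟨v 0, v 1, v 2, v 3, v 4, v 5, funext fun i => by fin_cases i <;> rfl⟩
  have := h a; have := h b; have := h c; have := h d; have := h g; have := h k
  funext i
  conv_rhs => rw [← Cfsg.Agent.Spor.Cos.F4.toF_code (![a, b, c, d, g, k] i)]
  refine congrArg Cfsg.Agent.Spor.Cos.F4.toF ?_
  simp only [num]
  fin_cases i <;> simp <;> omega

/-- A number is recovered from its vector. -/
noncomputable def chkVec (n : ℕ) : Bool := Nat.beq (num (vec n)) n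

theorem num_vec : ∀ n < 4096, num (vec n) = n := fun n hn =>
  Nat.eq_of_beq_eq_true (of_blocks (size := 1024) (b := 4) (p := chkVec) (by decide) (by decide)
    (fun j hj => by interval_cases j <;> decide +kernel) n hn)

/-- The row of a number. -/
def row (n : ℕ) : R6 :=
  ⟨F4.toF (n % 4), F4.toF (n / 4 % 4), F4.toF (n / 16 % 4), F4.toF (n / 64 % 4), F4.toF (n / 256 % 4),
    F4.toF (n / 1024 % 4)⟩

theorem row_vec (n : ℕ) : (row n).vec = vec n := by
  funext i
  fin_cases i <;> simp [row, R6.vec, vec]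

/-- The number of a row. -/
noncomputable def codeR (x : R6) : ℕ :=
  forceR x fun x => x.a.code + 4 * x.b.code + 16 * x.c.code + 64 * x.d.code + 256 * x.g.code + 1024 * x.h.code

theorem codeR_eq (x : R6) : codeR x = num x.vec := by
  rw [codeR, forceR_eq]; rfl

theorem step_num (r : Fin 12) (t : K4) (n : ℕ) :
    num (Matrix.vecMul (vec n) (mm r.val t)) = codeR (stepR r.val t (row n)) := by
  rw [codeR_eq, vecMul_mm, row_vec]

/-- The field element of a code. -/
def ofC (c : ℕ) : K4 := Cfsg.Agent.Spor.Cos.F4.toF c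

/-- The root of a generator. -/
def genRoot (s : ℕ) : Fin 12 := ⟨(genR.getD s (0, 0)).1 % 12, Nat.mod_lt _ (by norm_num)⟩

/-- The generators. -/
noncomputable def gT (s : ℕ) : G4 := if s < 3 then rel1 (genRoot s) (ofC (genR.getD s (0, 0)).2) else 1

theorem gT_out (s : ℕ) (hs : 3 ≤ s) : gT s = 1 := by rw [gT, if_neg (not_lt.2 hs)]

/-- The action on vectors. -/
noncomputable def piA : G4 →* Equiv.Perm (Fin actA.N) where
  toFun g :=
    { toFun := fun p => ⟨num (Matrix.vecMul (vec p.1) (ρ g⁻¹)), num_lt _⟩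
      invFun := fun p => ⟨num (Matrix.vecMul (vec p.1) (ρ g)), num_lt _⟩
      left_inv := fun p => Fin.ext (by
        show num (Matrix.vecMul (vec (num _)) _) = p.1
        rw [vec_num, Matrix.vecMul_vecMul, ← map_mul, inv_mul_cancel, map_one, Matrix.vecMul_one]
        exact num_vec p.1 p.2)
      right_inv := fun p => Fin.ext (by
        show num (Matrix.vecMul (vec (num _)) _) = p.1
        rw [vec_num, Matrix.vecMul_vecMul, ← map_mul, mul_inv_cancel, map_one, Matrix.vecMul_one]
        exact num_vec p.1 p.2) }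
  map_one' := Equiv.ext fun p => Fin.ext (by
    show num (Matrix.vecMul (vec p.1) _) = p.1
    rw [inv_one, map_one, Matrix.vecMul_one]
    exact num_vec p.1 p.2)
  map_mul' g h := Equiv.ext fun p => Fin.ext (by
    show num (Matrix.vecMul (vec p.1) _) = num (Matrix.vecMul (vec (num _)) _)
    rw [vec_num, Matrix.vecMul_vecMul, ← map_mul, _root_.mul_inv_rev])

theorem rel1_inv (r : Fin 12) (t : K4) : ρ (rel1 r t)⁻¹ = mm r.val t := by
  have hsq : ρ (rel1 r t) * ρ (rel1 r t) = 1 := by rw [ρ_rel1]; exact G2Six.mm_sq r t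
  rw [← map_mul, ← ρ.map_one] at hsq
  rw [inv_eq_of_mul_eq_one_right (ρ_injective hsq), ρ_rel1]

theorem piA_val (g : G4) (p : Fin actA.N) : (piA g p : ℕ) = num (Matrix.vecMul (vec p.1) (ρ g⁻¹)) := rfl

theorem act_inv : ∀ p < actA.N, actA.chkInv p = true :=
  of_blocks (size := 1024) (b := 4) (by decide) (by decide) fun j hj => by interval_cases j <;> decide +kernel

/-- The table against the root matrices, at a point. -/
noncomputable def chkTable (p : ℕ) : Bool :=
  (List.range 3).all fun s =>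
    Nat.beq (actA.im p s) (codeR (stepR (genRoot s).val (ofC (genR.getD s (0, 0)).2) (row p)))

theorem act_table : ∀ s < 3, ∀ p < 4096,
    actA.im p s = codeR (stepR (genRoot s).val (ofC (genR.getD s (0, 0)).2) (row p)) := fun s hs p hp =>
  Nat.eq_of_beq_eq_true (List.all_eq_true.1 (of_blocks (size := 1024) (b := 4) (p := chkTable) (by decide) (by decide)
    (fun j hj => by interval_cases j <;> decide +kernel) p hp) s (List.mem_range.2 hs))

theorem homA : actA.Hom gT piA := by
  refine ⟨act_inv, fun s => Equiv.ext fun p => Fin.ext ?_⟩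
  by_cases hs : s < 3
  · rw [actA.perm_apply act_inv hs, piA_val, gT, if_pos hs, rel1_inv, step_num, act_table s hs p.1 p.2]
  · rw [gT, if_neg hs, map_one, actA.perm_out s (not_lt.1 hs)]

theorem units_vec : ∀ i : Fin 6, 4 ^ (i : ℕ) ∈ [1, 4, 16, 64, 256, 1024] ∧ 4 ^ (i : ℕ) < 4096 ∧
    vec (4 ^ (i : ℕ)) = Pi.single i 1 := by decide +kernel

theorem det (y : G4) (h : ∀ q : Fin actA.N, (q : ℕ) ∈ [1, 4, 16, 64, 256, 1024] → piA y q = q) : y = 1 := by
  rw [← inv_eq_one]
  refine ρ_injective (Matrix.ext fun i j => ?_)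
  obtain ⟨h2, h1, h3⟩ := units_vec i
  have e := congrArg (fun q : Fin actA.N => vec q.1) (h ⟨4 ^ (i : ℕ), h1⟩ h2)
  simp only [piA_val, vec_num, h3] at e
  have e' := congrFun e j
  rw [Matrix.single_one_vecMul] at e'
  rw [map_one, Matrix.one_apply, ← Pi.single_apply]
  simpa [Pi.single_apply, eq_comm] using e'

/-- The check of a word for a root element. -/
noncomputable def chkRoot (r : Fin 12) (t : K4) : Bool :=
  (rootWords.getD (4 * r.1 + t.code) []).all (fun s => Nat.blt s 3) && [1, 4, 16, 64, 256, 1024].all fun b =>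
    Nat.beq (actA.go (rootWords.getD (4 * r.1 + t.code) []) b) (codeR (stepR r.val t (row b)))

theorem chkRoots : ∀ r : Fin 12, ∀ t : K4, chkRoot r t = true := by decide +kernel

theorem gen : Subgroup.closure {x | ∃ s < 3, gT s = x} = ⊤ := by
  set K := Subgroup.closure {x : G4 | ∃ s < 3, gT s = x} with hK
  have hroot : ∀ (r : Fin 12) (t : K4), rel1 r t ∈ K := by
    intro r t
    have h := chkRoots r t
    simp only [chkRoot, Bool.and_eq_true, List.all_eq_true] at h
    have hl : ∀ s ∈ rootWords.getD (4 * r.1 + t.code) [], s < 3 := fun s hs => Nat.le_of_ble_eq_true (h.1 s hs)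
    have e : rel1 r t = Cfsg.Agent.Spor.Cos.ev gT (rootWords.getD (4 * r.1 + t.code) []) := by
      refine (inv_mul_eq_one.1 (det ((Cfsg.Agent.Spor.Cos.ev gT (rootWords.getD (4 * r.1 + t.code) []))⁻¹ *
        rel1 r t) fun q hq => ?_)).symm
      have e : piA (rel1 r t) q = piA (Cfsg.Agent.Spor.Cos.ev gT (rootWords.getD (4 * r.1 + t.code) [])) q :=
        Fin.ext (by
          rw [homA.apply_ev _ hl, piA_val, rel1_inv, step_num]
          exact (Nat.eq_of_beq_eq_true (h.2 q.1 hq)).symm)
      rw [map_mul, map_inv, Equiv.Perm.mul_apply, e, Equiv.Perm.inv_def, Equiv.symm_apply_apply]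
    rw [e]
    exact ev_mem _ fun s hs => Subgroup.subset_closure ⟨s, hl s hs, rfl⟩
  have hn : chevG2.nroots = 12 := by decide +kernel
  rw [eq_top_iff]
  intro x _
  have hx : (x : GL chevG2.Idx K4) ∈ K.map (chevG2.group K4).subtype := by
    have hle : chevG2.group K4 ≤ K.map (chevG2.group K4).subtype := by
      conv_lhs => rw [certFullG2.group_eq]
      rw [Subgroup.closure_le]
      rintro _ ⟨r, hr, t, rfl⟩
      rw [hn] at hr
      exact ⟨rel1 ⟨r, hr⟩ t, hroot ⟨r, hr⟩ t, rfl⟩
    exact hle x.2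
  obtain ⟨y, hy, e⟩ := hx
  rwa [Subtype.ext e] at hy

theorem card_G4 : Nat.card G4 = 251596800 :=
  (Cfsg.Agent.S1059.result (F := K4) (q := 4) Cfsg.Agent.Spor.Cos.F4.card_eq).trans (by norm_num)

theorem exists_equiv {F : Type*} [Field F] [Fintype F] (hF : Fintype.card F = 4) :
    Nonempty (G4 ≃* ↥(chevG2.group F)) := by
  let ι : K4 ≃+* F := FiniteField.ringEquivOfCardEq (Cfsg.Agent.Spor.Cos.F4.card_eq.trans hF.symm)
  set f := Matrix.GeneralLinearGroup.map (n := chevG2.Idx) ι.toRingHom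
  have hf : Function.Injective f := fun a b h => Units.ext <| Matrix.ext fun i j =>
    ι.injective (congrArg (fun u : GL chevG2.Idx F => u i j) h)
  have hmap : (chevG2.group K4).map f = chevG2.group F := by
    rw [certFullG2.group_eq, certFullG2.group_eq, MonoidHom.map_closure]
    congr 1
    ext g
    constructor
    · rintro ⟨_, ⟨r, hr, t, rfl⟩, rfl⟩
      exact ⟨r, hr, ι t, certFullG2.xg_mapHom ι.toRingHom r t⟩
    · rintro ⟨r, hr, t, rfl⟩
      refine ⟨_, ⟨r, hr, ι.symm t, rfl⟩, ?_⟩
      rw [certFullG2.xg_mapHom]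
      simp
  exact ⟨(Subgroup.equivMapOfInjective _ f hf).trans (MulEquiv.subgroupCongr hmap)⟩

end Cfsg.Agent.Lie.G2FourMult
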