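import Cfsg.Agent.Lib.Grp.SchurM.SubsetAct
import Cfsg.Agent.Lib.Grp.SchurM.SpinPull
import Cfsg.Agent.Lib.Lie.Chev.G2FourMult.Two
import Cfsg.Agent.Lib.Spor.Cos.Sift

/-! The action on 1365 lines and the double cover it gives. -/

set_option autoImplicit false
set_option maxRecDepth 100000
set_option maxHeartbeats 4000000
set_option linter.style.haveILetI false

open Cfsg.Agent.Spor.Cos Cfsg.Agent.Grp.SchurM

namespace Cfsg.Agent.Lie.G2FourMult

/-- The points of a line. -/
noncomputable def linePts (i : ℕ) : List ℕ :=
  (List.range 15).map fun k => (lPtsT.at i >>> (16 * k)) % 65536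

theorem lineInv : ∀ i < 1365, actL.chkInv i = true :=
  of_blocks (size := 256) (b := 6) (by decide) (by decide) fun j hj => by interval_cases j <;> decide +kernel

theorem lineChk : ∀ i < 1365, chkSubset actA actL lSet linePts i = true :=
  of_blocks (size := 256) (b := 6) (by decide) (by decide) fun j hj => by interval_cases j <;> decide +kernel

theorem exists_homL : ∃ θ : G4 →* Equiv.Perm (Fin actL.N), actL.Hom gT θ :=
  exists_subset_hom homA rfl gen gT_out lineInv lineChk

theorem moves : SpinPull.chkMoves actL invW qT iT invM = true := by decide +kernel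

theorem inv_sq : Cfsg.Agent.Spor.Cos.ev gT (invW ++ invW) = 1 :=
  (ev_eq_of_agree (w := []) homA det (by decide +kernel) (by decide +kernel) (by decide +kernel)).trans rfl

theorem exists_cover : ∃ (U : Type) (_ : Group U) (_ : Finite U) (q : U →* G4),
    Cfsg.IsStemExtension q ∧ Nat.card q.ker = 2 := by
  haveI : Finite G4 := Nat.finite_of_card_ne_zero (by rw [card_G4]; norm_num)
  obtain ⟨θ, hθ⟩ := exists_homL
  obtain ⟨l, hl, hlen, hperm⟩ := SpinPull.exists_quads (A := actL) hθ (Nat.succ_pos 1364) moves
  refine SpinPull.exists_stem (N := actL.N) (by decide) perfect θ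
    (t := Cfsg.Agent.Spor.Cos.ev gT invW) ?_ l hl (by rw [hlen]; rfl) hperm
  rw [← ev_append]; exact inv_sq

end Cfsg.Agent.Lie.G2FourMult
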