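import Cfsg.Agent.Lib.Grp.SchurM.TailTableOne
import Cfsg.Agent.Lib.Lie.Chev.G2FourMult.Two

/-! A Sylow 2-subgroup of the group G₂(4) with equations for the tails. -/

set_option autoImplicit false
set_option maxRecDepth 100000
set_option maxHeartbeats 8000000

open Cfsg.Agent.Grp.SchurM.Tails

namespace Cfsg.Agent.Lie.G2FourMult

/-- Presentation of the Sylow 2-subgroup. -/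
def pc2 : PC where
  p := 2
  n := 12
  rhs := [[],
    [0, 1],
    [],
    [0, 2, 4],
    [1, 2, 6],
    [],
    [0, 3, 5],
    [1, 3, 7],
    [2, 3],
    [],
    [0, 4, 10],
    [1, 4, 8],
    [2, 4, 10],
    [3, 4, 11],
    [10],
    [0, 5, 10, 11],
    [1, 5, 9],
    [2, 5, 11],
    [3, 5, 10, 11],
    [4, 5],
    [10, 11],
    [0, 6, 8, 10],
    [1, 6, 10],
    [2, 6, 10],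
    [3, 6, 11],
    [4, 6, 10],
    [5, 6, 11],
    [10],
    [0, 7, 9, 10, 11],
    [1, 7, 10, 11],
    [2, 7, 11],
    [3, 7, 10, 11],
    [4, 7, 11],
    [5, 7, 10, 11],
    [6, 7],
    [10, 11],
    [0, 8],
    [1, 8],
    [2, 8, 10],
    [3, 8, 11],
    [4, 8],
    [5, 8],
    [6, 8],
    [7, 8],
    [],
    [0, 9],
    [1, 9],
    [2, 9, 11],
    [3, 9, 10, 11],
    [4, 9],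
    [5, 9],
    [6, 9],
    [7, 9],
    [8, 9],
    [],
    [0, 10],
    [1, 10],
    [2, 10],
    [3, 10],
    [4, 10],
    [5, 10],
    [6, 10],
    [7, 10],
    [8, 10],
    [9, 10],
    [],
    [0, 11],
    [1, 11],
    [2, 11],
    [3, 11],
    [4, 11],
    [5, 11],
    [6, 11],
    [7, 11],
    [8, 11],
    [9, 11],
    [10, 11],
    []]
  defs := [(4, 2, 0), (5, 3, 0), (6, 2, 1), (7, 3, 1), (8, 4, 1), (9, 5, 1), (10, 8, 2), (11, 8, 3)]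

/-- Elements of the Sylow 2-subgroup. -/
def els2 : List (List ℕ) :=
   [[],
    [10],
    [11],
    [10, 11],
    [5, 6, 8, 9, 11],
    [5, 6, 8, 9, 10, 11],
    [5, 6, 8, 9],
    [5, 6, 8, 9, 10],
    [4, 5, 7, 8, 10, 11],
    [4, 5, 7, 8, 11],
    [4, 5, 7, 8, 10],
    [4, 5, 7, 8],
    [4, 6, 7, 9, 10],
    [4, 6, 7, 9],
    [4, 6, 7, 9, 10, 11],
    [4, 6, 7, 9, 11],
    [8, 11],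
    [8, 10, 11],
    [8],
    [8, 10],
    [5, 6, 9],
    [5, 6, 9, 10],
    [5, 6, 9, 11],
    [5, 6, 9, 10, 11],
    [4, 5, 7, 10],
    [4, 5, 7],
    [4, 5, 7, 10, 11],
    [4, 5, 7, 11],
    [4, 6, 7, 8, 9, 10, 11],
    [4, 6, 7, 8, 9, 11],
    [4, 6, 7, 8, 9, 10],
    [4, 6, 7, 8, 9],
    [9, 10],
    [9],
    [9, 10, 11],
    [9, 11],
    [5, 6, 8, 10, 11],
    [5, 6, 8, 11],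
    [5, 6, 8, 10],
    [5, 6, 8],
    [4, 5, 7, 8, 9, 11],
    [4, 5, 7, 8, 9, 10, 11],
    [4, 5, 7, 8, 9],
    [4, 5, 7, 8, 9, 10],
    [4, 6, 7],
    [4, 6, 7, 10],
    [4, 6, 7, 11],
    [4, 6, 7, 10, 11],
    [8, 9, 10, 11],
    [8, 9, 11],
    [8, 9, 10],
    [8, 9],
    [5, 6, 10],
    [5, 6],
    [5, 6, 10, 11],
    [5, 6, 11],
    [4, 5, 7, 9],
    [4, 5, 7, 9, 10],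
    [4, 5, 7, 9, 11],
    [4, 5, 7, 9, 10, 11],
    [4, 6, 7, 8, 11],
    [4, 6, 7, 8, 10, 11],
    [4, 6, 7, 8],
    [4, 6, 7, 8, 10],
    [2],
    [2, 10],
    [2, 11],
    [2, 10, 11],
    [2, 5, 6, 8, 9, 11],
    [2, 5, 6, 8, 9, 10, 11],
    [2, 5, 6, 8, 9],
    [2, 5, 6, 8, 9, 10],
    [2, 4, 5, 7, 8, 10, 11],
    [2, 4, 5, 7, 8, 11],
    [2, 4, 5, 7, 8, 10],
    [2, 4, 5, 7, 8],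
    [2, 4, 6, 7, 9, 10],
    [2, 4, 6, 7, 9],
    [2, 4, 6, 7, 9, 10, 11],
    [2, 4, 6, 7, 9, 11],
    [2, 8, 11],
    [2, 8, 10, 11],
    [2, 8],
    [2, 8, 10],
    [2, 5, 6, 9],
    [2, 5, 6, 9, 10],
    [2, 5, 6, 9, 11],
    [2, 5, 6, 9, 10, 11],
    [2, 4, 5, 7, 10],
    [2, 4, 5, 7],
    [2, 4, 5, 7, 10, 11],
    [2, 4, 5, 7, 11],
    [2, 4, 6, 7, 8, 9, 10, 11],
    [2, 4, 6, 7, 8, 9, 11],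
    [2, 4, 6, 7, 8, 9, 10],
    [2, 4, 6, 7, 8, 9],
    [2, 9, 10],
    [2, 9],
    [2, 9, 10, 11],
    [2, 9, 11],
    [2, 5, 6, 8, 10, 11],
    [2, 5, 6, 8, 11],
    [2, 5, 6, 8, 10],
    [2, 5, 6, 8],
    [2, 4, 5, 7, 8, 9, 11],
    [2, 4, 5, 7, 8, 9, 10, 11],
    [2, 4, 5, 7, 8, 9],
    [2, 4, 5, 7, 8, 9, 10],
    [2, 4, 6, 7],
    [2, 4, 6, 7, 10],
    [2, 4, 6, 7, 11],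
    [2, 4, 6, 7, 10, 11],
    [2, 8, 9, 10, 11],
    [2, 8, 9, 11],
    [2, 8, 9, 10],
    [2, 8, 9],
    [2, 5, 6, 10],
    [2, 5, 6],
    [2, 5, 6, 10, 11],
    [2, 5, 6, 11],
    [2, 4, 5, 7, 9],
    [2, 4, 5, 7, 9, 10],
    [2, 4, 5, 7, 9, 11],
    [2, 4, 5, 7, 9, 10, 11],
    [2, 4, 6, 7, 8, 11],
    [2, 4, 6, 7, 8, 10, 11],
    [2, 4, 6, 7, 8],
    [2, 4, 6, 7, 8, 10],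
    [3],
    [3, 10],
    [3, 11],
    [3, 10, 11],
    [3, 5, 6, 8, 9, 11],
    [3, 5, 6, 8, 9, 10, 11],
    [3, 5, 6, 8, 9],
    [3, 5, 6, 8, 9, 10],
    [3, 4, 5, 7, 8, 10, 11],
    [3, 4, 5, 7, 8, 11],
    [3, 4, 5, 7, 8, 10],
    [3, 4, 5, 7, 8],
    [3, 4, 6, 7, 9, 10],
    [3, 4, 6, 7, 9],
    [3, 4, 6, 7, 9, 10, 11],
    [3, 4, 6, 7, 9, 11],
    [3, 8, 11],
    [3, 8, 10, 11],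
    [3, 8],
    [3, 8, 10],
    [3, 5, 6, 9],
    [3, 5, 6, 9, 10],
    [3, 5, 6, 9, 11],
    [3, 5, 6, 9, 10, 11],
    [3, 4, 5, 7, 10],
    [3, 4, 5, 7],
    [3, 4, 5, 7, 10, 11],
    [3, 4, 5, 7, 11],
    [3, 4, 6, 7, 8, 9, 10, 11],
    [3, 4, 6, 7, 8, 9, 11],
    [3, 4, 6, 7, 8, 9, 10],
    [3, 4, 6, 7, 8, 9],
    [3, 9, 10],
    [3, 9],
    [3, 9, 10, 11],
    [3, 9, 11],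
    [3, 5, 6, 8, 10, 11],
    [3, 5, 6, 8, 11],
    [3, 5, 6, 8, 10],
    [3, 5, 6, 8],
    [3, 4, 5, 7, 8, 9, 11],
    [3, 4, 5, 7, 8, 9, 10, 11],
    [3, 4, 5, 7, 8, 9],
    [3, 4, 5, 7, 8, 9, 10],
    [3, 4, 6, 7],
    [3, 4, 6, 7, 10],
    [3, 4, 6, 7, 11],
    [3, 4, 6, 7, 10, 11],
    [3, 8, 9, 10, 11],
    [3, 8, 9, 11],
    [3, 8, 9, 10],
    [3, 8, 9],
    [3, 5, 6, 10],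
    [3, 5, 6],
    [3, 5, 6, 10, 11],
    [3, 5, 6, 11],
    [3, 4, 5, 7, 9],
    [3, 4, 5, 7, 9, 10],
    [3, 4, 5, 7, 9, 11],
    [3, 4, 5, 7, 9, 10, 11],
    [3, 4, 6, 7, 8, 11],
    [3, 4, 6, 7, 8, 10, 11],
    [3, 4, 6, 7, 8],
    [3, 4, 6, 7, 8, 10],
    [2, 3],
    [2, 3, 10],
    [2, 3, 11],
    [2, 3, 10, 11],
    [2, 3, 5, 6, 8, 9, 11],
    [2, 3, 5, 6, 8, 9, 10, 11],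
    [2, 3, 5, 6, 8, 9],
    [2, 3, 5, 6, 8, 9, 10],
    [2, 3, 4, 5, 7, 8, 10, 11],
    [2, 3, 4, 5, 7, 8, 11],
    [2, 3, 4, 5, 7, 8, 10],
    [2, 3, 4, 5, 7, 8],
    [2, 3, 4, 6, 7, 9, 10],
    [2, 3, 4, 6, 7, 9],
    [2, 3, 4, 6, 7, 9, 10, 11],
    [2, 3, 4, 6, 7, 9, 11],
    [2, 3, 8, 11],
    [2, 3, 8, 10, 11],
    [2, 3, 8],
    [2, 3, 8, 10],
    [2, 3, 5, 6, 9],
    [2, 3, 5, 6, 9, 10],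
    [2, 3, 5, 6, 9, 11],
    [2, 3, 5, 6, 9, 10, 11],
    [2, 3, 4, 5, 7, 10],
    [2, 3, 4, 5, 7],
    [2, 3, 4, 5, 7, 10, 11],
    [2, 3, 4, 5, 7, 11],
    [2, 3, 4, 6, 7, 8, 9, 10, 11],
    [2, 3, 4, 6, 7, 8, 9, 11],
    [2, 3, 4, 6, 7, 8, 9, 10],
    [2, 3, 4, 6, 7, 8, 9],
    [2, 3, 9, 10],
    [2, 3, 9],
    [2, 3, 9, 10, 11],
    [2, 3, 9, 11],
    [2, 3, 5, 6, 8, 10, 11],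
    [2, 3, 5, 6, 8, 11],
    [2, 3, 5, 6, 8, 10],
    [2, 3, 5, 6, 8],
    [2, 3, 4, 5, 7, 8, 9, 11],
    [2, 3, 4, 5, 7, 8, 9, 10, 11],
    [2, 3, 4, 5, 7, 8, 9],
    [2, 3, 4, 5, 7, 8, 9, 10],
    [2, 3, 4, 6, 7],
    [2, 3, 4, 6, 7, 10],
    [2, 3, 4, 6, 7, 11],
    [2, 3, 4, 6, 7, 10, 11],
    [2, 3, 8, 9, 10, 11],
    [2, 3, 8, 9, 11],
    [2, 3, 8, 9, 10],
    [2, 3, 8, 9],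
    [2, 3, 5, 6, 10],
    [2, 3, 5, 6],
    [2, 3, 5, 6, 10, 11],
    [2, 3, 5, 6, 11],
    [2, 3, 4, 5, 7, 9],
    [2, 3, 4, 5, 7, 9, 10],
    [2, 3, 4, 5, 7, 9, 11],
    [2, 3, 4, 5, 7, 9, 10, 11],
    [2, 3, 4, 6, 7, 8, 11],
    [2, 3, 4, 6, 7, 8, 10, 11],
    [2, 3, 4, 6, 7, 8],
    [2, 3, 4, 6, 7, 8, 10],
    [4, 5, 6, 9, 10],
    [4, 5, 6, 9],
    [4, 5, 6, 9, 10, 11],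
    [4, 5, 6, 9, 11],
    [4, 8, 11],
    [4, 8, 10, 11],
    [4, 8],
    [4, 8, 10],
    [6, 7, 8, 9, 10],
    [6, 7, 8, 9],
    [6, 7, 8, 9, 10, 11],
    [6, 7, 8, 9, 11],
    [5, 7, 11],
    [5, 7, 10, 11],
    [5, 7],
    [5, 7, 10],
    [4, 5, 6, 8, 9, 10, 11],
    [4, 5, 6, 8, 9, 11],
    [4, 5, 6, 8, 9, 10],
    [4, 5, 6, 8, 9],
    [4],
    [4, 10],
    [4, 11],
    [4, 10, 11],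
    [6, 7, 9, 10, 11],
    [6, 7, 9, 11],
    [6, 7, 9, 10],
    [6, 7, 9],
    [5, 7, 8],
    [5, 7, 8, 10],
    [5, 7, 8, 11],
    [5, 7, 8, 10, 11],
    [4, 5, 6],
    [4, 5, 6, 10],
    [4, 5, 6, 11],
    [4, 5, 6, 10, 11],
    [4, 8, 9, 10, 11],
    [4, 8, 9, 11],
    [4, 8, 9, 10],
    [4, 8, 9],
    [6, 7, 8],
    [6, 7, 8, 10],
    [6, 7, 8, 11],
    [6, 7, 8, 10, 11],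
    [5, 7, 9, 10, 11],
    [5, 7, 9, 11],
    [5, 7, 9, 10],
    [5, 7, 9],
    [4, 5, 6, 8, 11],
    [4, 5, 6, 8, 10, 11],
    [4, 5, 6, 8],
    [4, 5, 6, 8, 10],
    [4, 9, 10],
    [4, 9],
    [4, 9, 10, 11],
    [4, 9, 11],
    [6, 7, 11],
    [6, 7, 10, 11],
    [6, 7],
    [6, 7, 10],
    [5, 7, 8, 9, 10],
    [5, 7, 8, 9],
    [5, 7, 8, 9, 10, 11],
    [5, 7, 8, 9, 11],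
    [2, 4, 5, 6, 9, 10],
    [2, 4, 5, 6, 9],
    [2, 4, 5, 6, 9, 10, 11],
    [2, 4, 5, 6, 9, 11],
    [2, 4, 8, 11],
    [2, 4, 8, 10, 11],
    [2, 4, 8],
    [2, 4, 8, 10],
    [2, 6, 7, 8, 9, 10],
    [2, 6, 7, 8, 9],
    [2, 6, 7, 8, 9, 10, 11],
    [2, 6, 7, 8, 9, 11],
    [2, 5, 7, 11],
    [2, 5, 7, 10, 11],
    [2, 5, 7],
    [2, 5, 7, 10],
    [2, 4, 5, 6, 8, 9, 10, 11],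
    [2, 4, 5, 6, 8, 9, 11],
    [2, 4, 5, 6, 8, 9, 10],
    [2, 4, 5, 6, 8, 9],
    [2, 4],
    [2, 4, 10],
    [2, 4, 11],
    [2, 4, 10, 11],
    [2, 6, 7, 9, 10, 11],
    [2, 6, 7, 9, 11],
    [2, 6, 7, 9, 10],
    [2, 6, 7, 9],
    [2, 5, 7, 8],
    [2, 5, 7, 8, 10],
    [2, 5, 7, 8, 11],
    [2, 5, 7, 8, 10, 11],
    [2, 4, 5, 6],
    [2, 4, 5, 6, 10],
    [2, 4, 5, 6, 11],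
    [2, 4, 5, 6, 10, 11],
    [2, 4, 8, 9, 10, 11],
    [2, 4, 8, 9, 11],
    [2, 4, 8, 9, 10],
    [2, 4, 8, 9],
    [2, 6, 7, 8],
    [2, 6, 7, 8, 10],
    [2, 6, 7, 8, 11],
    [2, 6, 7, 8, 10, 11],
    [2, 5, 7, 9, 10, 11],
    [2, 5, 7, 9, 11],
    [2, 5, 7, 9, 10],
    [2, 5, 7, 9],
    [2, 4, 5, 6, 8, 11],
    [2, 4, 5, 6, 8, 10, 11],
    [2, 4, 5, 6, 8],
    [2, 4, 5, 6, 8, 10],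
    [2, 4, 9, 10],
    [2, 4, 9],
    [2, 4, 9, 10, 11],
    [2, 4, 9, 11],
    [2, 6, 7, 11],
    [2, 6, 7, 10, 11],
    [2, 6, 7],
    [2, 6, 7, 10],
    [2, 5, 7, 8, 9, 10],
    [2, 5, 7, 8, 9],
    [2, 5, 7, 8, 9, 10, 11],
    [2, 5, 7, 8, 9, 11],
    [3, 4, 5, 6, 9, 10],
    [3, 4, 5, 6, 9],
    [3, 4, 5, 6, 9, 10, 11],
    [3, 4, 5, 6, 9, 11],
    [3, 4, 8, 11],
    [3, 4, 8, 10, 11],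
    [3, 4, 8],
    [3, 4, 8, 10],
    [3, 6, 7, 8, 9, 10],
    [3, 6, 7, 8, 9],
    [3, 6, 7, 8, 9, 10, 11],
    [3, 6, 7, 8, 9, 11],
    [3, 5, 7, 11],
    [3, 5, 7, 10, 11],
    [3, 5, 7],
    [3, 5, 7, 10],
    [3, 4, 5, 6, 8, 9, 10, 11],
    [3, 4, 5, 6, 8, 9, 11],
    [3, 4, 5, 6, 8, 9, 10],
    [3, 4, 5, 6, 8, 9],
    [3, 4],
    [3, 4, 10],
    [3, 4, 11],
    [3, 4, 10, 11],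
    [3, 6, 7, 9, 10, 11],
    [3, 6, 7, 9, 11],
    [3, 6, 7, 9, 10],
    [3, 6, 7, 9],
    [3, 5, 7, 8],
    [3, 5, 7, 8, 10],
    [3, 5, 7, 8, 11],
    [3, 5, 7, 8, 10, 11],
    [3, 4, 5, 6],
    [3, 4, 5, 6, 10],
    [3, 4, 5, 6, 11],
    [3, 4, 5, 6, 10, 11],
    [3, 4, 8, 9, 10, 11],
    [3, 4, 8, 9, 11],
    [3, 4, 8, 9, 10],
    [3, 4, 8, 9],
    [3, 6, 7, 8],
    [3, 6, 7, 8, 10],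
    [3, 6, 7, 8, 11],
    [3, 6, 7, 8, 10, 11],
    [3, 5, 7, 9, 10, 11],
    [3, 5, 7, 9, 11],
    [3, 5, 7, 9, 10],
    [3, 5, 7, 9],
    [3, 4, 5, 6, 8, 11],
    [3, 4, 5, 6, 8, 10, 11],
    [3, 4, 5, 6, 8],
    [3, 4, 5, 6, 8, 10],
    [3, 4, 9, 10],
    [3, 4, 9],
    [3, 4, 9, 10, 11],
    [3, 4, 9, 11],
    [3, 6, 7, 11],
    [3, 6, 7, 10, 11],
    [3, 6, 7],
    [3, 6, 7, 10],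
    [3, 5, 7, 8, 9, 10],
    [3, 5, 7, 8, 9],
    [3, 5, 7, 8, 9, 10, 11],
    [3, 5, 7, 8, 9, 11],
    [2, 3, 4, 5, 6, 9, 10],
    [2, 3, 4, 5, 6, 9],
    [2, 3, 4, 5, 6, 9, 10, 11],
    [2, 3, 4, 5, 6, 9, 11],
    [2, 3, 4, 8, 11],
    [2, 3, 4, 8, 10, 11],
    [2, 3, 4, 8],
    [2, 3, 4, 8, 10],
    [2, 3, 6, 7, 8, 9, 10],
    [2, 3, 6, 7, 8, 9],
    [2, 3, 6, 7, 8, 9, 10, 11],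
    [2, 3, 6, 7, 8, 9, 11],
    [2, 3, 5, 7, 11],
    [2, 3, 5, 7, 10, 11],
    [2, 3, 5, 7],
    [2, 3, 5, 7, 10],
    [2, 3, 4, 5, 6, 8, 9, 10, 11],
    [2, 3, 4, 5, 6, 8, 9, 11],
    [2, 3, 4, 5, 6, 8, 9, 10],
    [2, 3, 4, 5, 6, 8, 9],
    [2, 3, 4],
    [2, 3, 4, 10],
    [2, 3, 4, 11],
    [2, 3, 4, 10, 11],
    [2, 3, 6, 7, 9, 10, 11],
    [2, 3, 6, 7, 9, 11],
    [2, 3, 6, 7, 9, 10],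
    [2, 3, 6, 7, 9],
    [2, 3, 5, 7, 8],
    [2, 3, 5, 7, 8, 10],
    [2, 3, 5, 7, 8, 11],
    [2, 3, 5, 7, 8, 10, 11],
    [2, 3, 4, 5, 6],
    [2, 3, 4, 5, 6, 10],
    [2, 3, 4, 5, 6, 11],
    [2, 3, 4, 5, 6, 10, 11],
    [2, 3, 4, 8, 9, 10, 11],
    [2, 3, 4, 8, 9, 11],
    [2, 3, 4, 8, 9, 10],
    [2, 3, 4, 8, 9],
    [2, 3, 6, 7, 8],
    [2, 3, 6, 7, 8, 10],
    [2, 3, 6, 7, 8, 11],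
    [2, 3, 6, 7, 8, 10, 11],
    [2, 3, 5, 7, 9, 10, 11],
    [2, 3, 5, 7, 9, 11],
    [2, 3, 5, 7, 9, 10],
    [2, 3, 5, 7, 9],
    [2, 3, 4, 5, 6, 8, 11],
    [2, 3, 4, 5, 6, 8, 10, 11],
    [2, 3, 4, 5, 6, 8],
    [2, 3, 4, 5, 6, 8, 10],
    [2, 3, 4, 9, 10],
    [2, 3, 4, 9],
    [2, 3, 4, 9, 10, 11],
    [2, 3, 4, 9, 11],
    [2, 3, 6, 7, 11],
    [2, 3, 6, 7, 10, 11],
    [2, 3, 6, 7],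
    [2, 3, 6, 7, 10],
    [2, 3, 5, 7, 8, 9, 10],
    [2, 3, 5, 7, 8, 9],
    [2, 3, 5, 7, 8, 9, 10, 11],
    [2, 3, 5, 7, 8, 9, 11],
    [4, 7, 8, 9, 11],
    [4, 7, 8, 9, 10, 11],
    [4, 7, 8, 9],
    [4, 7, 8, 9, 10],
    [4, 5, 6, 7, 10],
    [4, 5, 6, 7],
    [4, 5, 6, 7, 10, 11],
    [4, 5, 6, 7, 11],
    [5, 9, 10],
    [5, 9],
    [5, 9, 10, 11],
    [5, 9, 11],
    [6, 8, 11],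
    [6, 8, 10, 11],
    [6, 8],
    [6, 8, 10],
    [4, 7, 9],
    [4, 7, 9, 10],
    [4, 7, 9, 11],
    [4, 7, 9, 10, 11],
    [4, 5, 6, 7, 8, 10, 11],
    [4, 5, 6, 7, 8, 11],
    [4, 5, 6, 7, 8, 10],
    [4, 5, 6, 7, 8],
    [5, 8, 9, 10, 11],
    [5, 8, 9, 11],
    [5, 8, 9, 10],
    [5, 8, 9],
    [6],
    [6, 10],
    [6, 11],
    [6, 10, 11],
    [4, 7, 8, 10, 11],
    [4, 7, 8, 11],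
    [4, 7, 8, 10],
    [4, 7, 8],
    [4, 5, 6, 7, 9],
    [4, 5, 6, 7, 9, 10],
    [4, 5, 6, 7, 9, 11],
    [4, 5, 6, 7, 9, 10, 11],
    [5],
    [5, 10],
    [5, 11],
    [5, 10, 11],
    [6, 8, 9, 10, 11],
    [6, 8, 9, 11],
    [6, 8, 9, 10],
    [6, 8, 9],
    [4, 7, 10],
    [4, 7],
    [4, 7, 10, 11],
    [4, 7, 11],
    [4, 5, 6, 7, 8, 9, 11],
    [4, 5, 6, 7, 8, 9, 10, 11],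
    [4, 5, 6, 7, 8, 9],
    [4, 5, 6, 7, 8, 9, 10],
    [5, 8, 11],
    [5, 8, 10, 11],
    [5, 8],
    [5, 8, 10],
    [6, 9, 10],
    [6, 9],
    [6, 9, 10, 11],
    [6, 9, 11],
    [2, 4, 7, 8, 9, 11],
    [2, 4, 7, 8, 9, 10, 11],
    [2, 4, 7, 8, 9],
    [2, 4, 7, 8, 9, 10],
    [2, 4, 5, 6, 7, 10],
    [2, 4, 5, 6, 7],
    [2, 4, 5, 6, 7, 10, 11],
    [2, 4, 5, 6, 7, 11],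
    [2, 5, 9, 10],
    [2, 5, 9],
    [2, 5, 9, 10, 11],
    [2, 5, 9, 11],
    [2, 6, 8, 11],
    [2, 6, 8, 10, 11],
    [2, 6, 8],
    [2, 6, 8, 10],
    [2, 4, 7, 9],
    [2, 4, 7, 9, 10],
    [2, 4, 7, 9, 11],
    [2, 4, 7, 9, 10, 11],
    [2, 4, 5, 6, 7, 8, 10, 11],
    [2, 4, 5, 6, 7, 8, 11],
    [2, 4, 5, 6, 7, 8, 10],
    [2, 4, 5, 6, 7, 8],
    [2, 5, 8, 9, 10, 11],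
    [2, 5, 8, 9, 11],
    [2, 5, 8, 9, 10],
    [2, 5, 8, 9],
    [2, 6],
    [2, 6, 10],
    [2, 6, 11],
    [2, 6, 10, 11],
    [2, 4, 7, 8, 10, 11],
    [2, 4, 7, 8, 11],
    [2, 4, 7, 8, 10],
    [2, 4, 7, 8],
    [2, 4, 5, 6, 7, 9],
    [2, 4, 5, 6, 7, 9, 10],
    [2, 4, 5, 6, 7, 9, 11],
    [2, 4, 5, 6, 7, 9, 10, 11],
    [2, 5],
    [2, 5, 10],
    [2, 5, 11],
    [2, 5, 10, 11],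
    [2, 6, 8, 9, 10, 11],
    [2, 6, 8, 9, 11],
    [2, 6, 8, 9, 10],
    [2, 6, 8, 9],
    [2, 4, 7, 10],
    [2, 4, 7],
    [2, 4, 7, 10, 11],
    [2, 4, 7, 11],
    [2, 4, 5, 6, 7, 8, 9, 11],
    [2, 4, 5, 6, 7, 8, 9, 10, 11],
    [2, 4, 5, 6, 7, 8, 9],
    [2, 4, 5, 6, 7, 8, 9, 10],
    [2, 5, 8, 11],
    [2, 5, 8, 10, 11],
    [2, 5, 8],
    [2, 5, 8, 10],
    [2, 6, 9, 10],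
    [2, 6, 9],
    [2, 6, 9, 10, 11],
    [2, 6, 9, 11],
    [3, 4, 7, 8, 9, 11],
    [3, 4, 7, 8, 9, 10, 11],
    [3, 4, 7, 8, 9],
    [3, 4, 7, 8, 9, 10],
    [3, 4, 5, 6, 7, 10],
    [3, 4, 5, 6, 7],
    [3, 4, 5, 6, 7, 10, 11],
    [3, 4, 5, 6, 7, 11],
    [3, 5, 9, 10],
    [3, 5, 9],
    [3, 5, 9, 10, 11],
    [3, 5, 9, 11],
    [3, 6, 8, 11],
    [3, 6, 8, 10, 11],
    [3, 6, 8],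
    [3, 6, 8, 10],
    [3, 4, 7, 9],
    [3, 4, 7, 9, 10],
    [3, 4, 7, 9, 11],
    [3, 4, 7, 9, 10, 11],
    [3, 4, 5, 6, 7, 8, 10, 11],
    [3, 4, 5, 6, 7, 8, 11],
    [3, 4, 5, 6, 7, 8, 10],
    [3, 4, 5, 6, 7, 8],
    [3, 5, 8, 9, 10, 11],
    [3, 5, 8, 9, 11],
    [3, 5, 8, 9, 10],
    [3, 5, 8, 9],
    [3, 6],
    [3, 6, 10],
    [3, 6, 11],
    [3, 6, 10, 11],
    [3, 4, 7, 8, 10, 11],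
    [3, 4, 7, 8, 11],
    [3, 4, 7, 8, 10],
    [3, 4, 7, 8],
    [3, 4, 5, 6, 7, 9],
    [3, 4, 5, 6, 7, 9, 10],
    [3, 4, 5, 6, 7, 9, 11],
    [3, 4, 5, 6, 7, 9, 10, 11],
    [3, 5],
    [3, 5, 10],
    [3, 5, 11],
    [3, 5, 10, 11],
    [3, 6, 8, 9, 10, 11],
    [3, 6, 8, 9, 11],
    [3, 6, 8, 9, 10],
    [3, 6, 8, 9],
    [3, 4, 7, 10],
    [3, 4, 7],
    [3, 4, 7, 10, 11],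
    [3, 4, 7, 11],
    [3, 4, 5, 6, 7, 8, 9, 11],
    [3, 4, 5, 6, 7, 8, 9, 10, 11],
    [3, 4, 5, 6, 7, 8, 9],
    [3, 4, 5, 6, 7, 8, 9, 10],
    [3, 5, 8, 11],
    [3, 5, 8, 10, 11],
    [3, 5, 8],
    [3, 5, 8, 10],
    [3, 6, 9, 10],
    [3, 6, 9],
    [3, 6, 9, 10, 11],
    [3, 6, 9, 11],
    [2, 3, 4, 7, 8, 9, 11],
    [2, 3, 4, 7, 8, 9, 10, 11],
    [2, 3, 4, 7, 8, 9],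
    [2, 3, 4, 7, 8, 9, 10],
    [2, 3, 4, 5, 6, 7, 10],
    [2, 3, 4, 5, 6, 7],
    [2, 3, 4, 5, 6, 7, 10, 11],
    [2, 3, 4, 5, 6, 7, 11],
    [2, 3, 5, 9, 10],
    [2, 3, 5, 9],
    [2, 3, 5, 9, 10, 11],
    [2, 3, 5, 9, 11],
    [2, 3, 6, 8, 11],
    [2, 3, 6, 8, 10, 11],
    [2, 3, 6, 8],
    [2, 3, 6, 8, 10],
    [2, 3, 4, 7, 9],
    [2, 3, 4, 7, 9, 10],
    [2, 3, 4, 7, 9, 11],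
    [2, 3, 4, 7, 9, 10, 11],
    [2, 3, 4, 5, 6, 7, 8, 10, 11],
    [2, 3, 4, 5, 6, 7, 8, 11],
    [2, 3, 4, 5, 6, 7, 8, 10],
    [2, 3, 4, 5, 6, 7, 8],
    [2, 3, 5, 8, 9, 10, 11],
    [2, 3, 5, 8, 9, 11],
    [2, 3, 5, 8, 9, 10],
    [2, 3, 5, 8, 9],
    [2, 3, 6],
    [2, 3, 6, 10],
    [2, 3, 6, 11],
    [2, 3, 6, 10, 11],
    [2, 3, 4, 7, 8, 10, 11],
    [2, 3, 4, 7, 8, 11],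
    [2, 3, 4, 7, 8, 10],
    [2, 3, 4, 7, 8],
    [2, 3, 4, 5, 6, 7, 9],
    [2, 3, 4, 5, 6, 7, 9, 10],
    [2, 3, 4, 5, 6, 7, 9, 11],
    [2, 3, 4, 5, 6, 7, 9, 10, 11],
    [2, 3, 5],
    [2, 3, 5, 10],
    [2, 3, 5, 11],
    [2, 3, 5, 10, 11],
    [2, 3, 6, 8, 9, 10, 11],
    [2, 3, 6, 8, 9, 11],
    [2, 3, 6, 8, 9, 10],
    [2, 3, 6, 8, 9],
    [2, 3, 4, 7, 10],
    [2, 3, 4, 7],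
    [2, 3, 4, 7, 10, 11],
    [2, 3, 4, 7, 11],
    [2, 3, 4, 5, 6, 7, 8, 9, 11],
    [2, 3, 4, 5, 6, 7, 8, 9, 10, 11],
    [2, 3, 4, 5, 6, 7, 8, 9],
    [2, 3, 4, 5, 6, 7, 8, 9, 10],
    [2, 3, 5, 8, 11],
    [2, 3, 5, 8, 10, 11],
    [2, 3, 5, 8],
    [2, 3, 5, 8, 10],
    [2, 3, 6, 9, 10],
    [2, 3, 6, 9],
    [2, 3, 6, 9, 10, 11],
    [2, 3, 6, 9, 11],
    [5, 6, 7, 8, 10, 11],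
    [5, 6, 7, 8, 11],
    [5, 6, 7, 8, 10],
    [5, 6, 7, 8],
    [7, 9, 10],
    [7, 9],
    [7, 9, 10, 11],
    [7, 9, 11],
    [4, 6, 10, 11],
    [4, 6, 11],
    [4, 6, 10],
    [4, 6],
    [4, 5, 8, 9, 10],
    [4, 5, 8, 9],
    [4, 5, 8, 9, 10, 11],
    [4, 5, 8, 9, 11],
    [5, 6, 7, 10],
    [5, 6, 7],
    [5, 6, 7, 10, 11],
    [5, 6, 7, 11],
    [7, 8, 9, 10, 11],
    [7, 8, 9, 11],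
    [7, 8, 9, 10],
    [7, 8, 9],
    [4, 6, 8, 10],
    [4, 6, 8],
    [4, 6, 8, 10, 11],
    [4, 6, 8, 11],
    [4, 5, 9, 10, 11],
    [4, 5, 9, 11],
    [4, 5, 9, 10],
    [4, 5, 9],
    [5, 6, 7, 8, 9, 11],
    [5, 6, 7, 8, 9, 10, 11],
    [5, 6, 7, 8, 9],
    [5, 6, 7, 8, 9, 10],
    [7],
    [7, 10],
    [7, 11],
    [7, 10, 11],
    [4, 6, 9, 11],
    [4, 6, 9, 10, 11],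
    [4, 6, 9],
    [4, 6, 9, 10],
    [4, 5, 8],
    [4, 5, 8, 10],
    [4, 5, 8, 11],
    [4, 5, 8, 10, 11],
    [5, 6, 7, 9],
    [5, 6, 7, 9, 10],
    [5, 6, 7, 9, 11],
    [5, 6, 7, 9, 10, 11],
    [7, 8, 11],
    [7, 8, 10, 11],
    [7, 8],
    [7, 8, 10],
    [4, 6, 8, 9],
    [4, 6, 8, 9, 10],
    [4, 6, 8, 9, 11],
    [4, 6, 8, 9, 10, 11],
    [4, 5, 11],
    [4, 5, 10, 11],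
    [4, 5],
    [4, 5, 10],
    [2, 5, 6, 7, 8, 10, 11],
    [2, 5, 6, 7, 8, 11],
    [2, 5, 6, 7, 8, 10],
    [2, 5, 6, 7, 8],
    [2, 7, 9, 10],
    [2, 7, 9],
    [2, 7, 9, 10, 11],
    [2, 7, 9, 11],
    [2, 4, 6, 10, 11],
    [2, 4, 6, 11],
    [2, 4, 6, 10],
    [2, 4, 6],
    [2, 4, 5, 8, 9, 10],
    [2, 4, 5, 8, 9],
    [2, 4, 5, 8, 9, 10, 11],
    [2, 4, 5, 8, 9, 11],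
    [2, 5, 6, 7, 10],
    [2, 5, 6, 7],
    [2, 5, 6, 7, 10, 11],
    [2, 5, 6, 7, 11],
    [2, 7, 8, 9, 10, 11],
    [2, 7, 8, 9, 11],
    [2, 7, 8, 9, 10],
    [2, 7, 8, 9],
    [2, 4, 6, 8, 10],
    [2, 4, 6, 8],
    [2, 4, 6, 8, 10, 11],
    [2, 4, 6, 8, 11],
    [2, 4, 5, 9, 10, 11],
    [2, 4, 5, 9, 11],
    [2, 4, 5, 9, 10],
    [2, 4, 5, 9],
    [2, 5, 6, 7, 8, 9, 11],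
    [2, 5, 6, 7, 8, 9, 10, 11],
    [2, 5, 6, 7, 8, 9],
    [2, 5, 6, 7, 8, 9, 10],
    [2, 7],
    [2, 7, 10],
    [2, 7, 11],
    [2, 7, 10, 11],
    [2, 4, 6, 9, 11],
    [2, 4, 6, 9, 10, 11],
    [2, 4, 6, 9],
    [2, 4, 6, 9, 10],
    [2, 4, 5, 8],
    [2, 4, 5, 8, 10],
    [2, 4, 5, 8, 11],
    [2, 4, 5, 8, 10, 11],
    [2, 5, 6, 7, 9],
    [2, 5, 6, 7, 9, 10],
    [2, 5, 6, 7, 9, 11],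
    [2, 5, 6, 7, 9, 10, 11],
    [2, 7, 8, 11],
    [2, 7, 8, 10, 11],
    [2, 7, 8],
    [2, 7, 8, 10],
    [2, 4, 6, 8, 9],
    [2, 4, 6, 8, 9, 10],
    [2, 4, 6, 8, 9, 11],
    [2, 4, 6, 8, 9, 10, 11],
    [2, 4, 5, 11],
    [2, 4, 5, 10, 11],
    [2, 4, 5],
    [2, 4, 5, 10],
    [3, 5, 6, 7, 8, 10, 11],
    [3, 5, 6, 7, 8, 11],
    [3, 5, 6, 7, 8, 10],
    [3, 5, 6, 7, 8],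
    [3, 7, 9, 10],
    [3, 7, 9],
    [3, 7, 9, 10, 11],
    [3, 7, 9, 11],
    [3, 4, 6, 10, 11],
    [3, 4, 6, 11],
    [3, 4, 6, 10],
    [3, 4, 6],
    [3, 4, 5, 8, 9, 10],
    [3, 4, 5, 8, 9],
    [3, 4, 5, 8, 9, 10, 11],
    [3, 4, 5, 8, 9, 11],
    [3, 5, 6, 7, 10],
    [3, 5, 6, 7],
    [3, 5, 6, 7, 10, 11],
    [3, 5, 6, 7, 11],
    [3, 7, 8, 9, 10, 11],
    [3, 7, 8, 9, 11],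
    [3, 7, 8, 9, 10],
    [3, 7, 8, 9],
    [3, 4, 6, 8, 10],
    [3, 4, 6, 8],
    [3, 4, 6, 8, 10, 11],
    [3, 4, 6, 8, 11],
    [3, 4, 5, 9, 10, 11],
    [3, 4, 5, 9, 11],
    [3, 4, 5, 9, 10],
    [3, 4, 5, 9],
    [3, 5, 6, 7, 8, 9, 11],
    [3, 5, 6, 7, 8, 9, 10, 11],
    [3, 5, 6, 7, 8, 9],
    [3, 5, 6, 7, 8, 9, 10],
    [3, 7],
    [3, 7, 10],
    [3, 7, 11],
    [3, 7, 10, 11],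
    [3, 4, 6, 9, 11],
    [3, 4, 6, 9, 10, 11],
    [3, 4, 6, 9],
    [3, 4, 6, 9, 10],
    [3, 4, 5, 8],
    [3, 4, 5, 8, 10],
    [3, 4, 5, 8, 11],
    [3, 4, 5, 8, 10, 11],
    [3, 5, 6, 7, 9],
    [3, 5, 6, 7, 9, 10],
    [3, 5, 6, 7, 9, 11],
    [3, 5, 6, 7, 9, 10, 11],
    [3, 7, 8, 11],
    [3, 7, 8, 10, 11],
    [3, 7, 8],
    [3, 7, 8, 10],
    [3, 4, 6, 8, 9],
    [3, 4, 6, 8, 9, 10],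
    [3, 4, 6, 8, 9, 11],
    [3, 4, 6, 8, 9, 10, 11],
    [3, 4, 5, 11],
    [3, 4, 5, 10, 11],
    [3, 4, 5],
    [3, 4, 5, 10],
    [2, 3, 5, 6, 7, 8, 10, 11],
    [2, 3, 5, 6, 7, 8, 11],
    [2, 3, 5, 6, 7, 8, 10],
    [2, 3, 5, 6, 7, 8],
    [2, 3, 7, 9, 10],
    [2, 3, 7, 9],
    [2, 3, 7, 9, 10, 11],
    [2, 3, 7, 9, 11],
    [2, 3, 4, 6, 10, 11],
    [2, 3, 4, 6, 11],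
    [2, 3, 4, 6, 10],
    [2, 3, 4, 6],
    [2, 3, 4, 5, 8, 9, 10],
    [2, 3, 4, 5, 8, 9],
    [2, 3, 4, 5, 8, 9, 10, 11],
    [2, 3, 4, 5, 8, 9, 11],
    [2, 3, 5, 6, 7, 10],
    [2, 3, 5, 6, 7],
    [2, 3, 5, 6, 7, 10, 11],
    [2, 3, 5, 6, 7, 11],
    [2, 3, 7, 8, 9, 10, 11],
    [2, 3, 7, 8, 9, 11],
    [2, 3, 7, 8, 9, 10],
    [2, 3, 7, 8, 9],
    [2, 3, 4, 6, 8, 10],
    [2, 3, 4, 6, 8],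
    [2, 3, 4, 6, 8, 10, 11],
    [2, 3, 4, 6, 8, 11],
    [2, 3, 4, 5, 9, 10, 11],
    [2, 3, 4, 5, 9, 11],
    [2, 3, 4, 5, 9, 10],
    [2, 3, 4, 5, 9],
    [2, 3, 5, 6, 7, 8, 9, 11],
    [2, 3, 5, 6, 7, 8, 9, 10, 11],
    [2, 3, 5, 6, 7, 8, 9],
    [2, 3, 5, 6, 7, 8, 9, 10],
    [2, 3, 7],
    [2, 3, 7, 10],
    [2, 3, 7, 11],
    [2, 3, 7, 10, 11],
    [2, 3, 4, 6, 9, 11],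
    [2, 3, 4, 6, 9, 10, 11],
    [2, 3, 4, 6, 9],
    [2, 3, 4, 6, 9, 10],
    [2, 3, 4, 5, 8],
    [2, 3, 4, 5, 8, 10],
    [2, 3, 4, 5, 8, 11],
    [2, 3, 4, 5, 8, 10, 11],
    [2, 3, 5, 6, 7, 9],
    [2, 3, 5, 6, 7, 9, 10],
    [2, 3, 5, 6, 7, 9, 11],
    [2, 3, 5, 6, 7, 9, 10, 11],
    [2, 3, 7, 8, 11],
    [2, 3, 7, 8, 10, 11],
    [2, 3, 7, 8],
    [2, 3, 7, 8, 10],
    [2, 3, 4, 6, 8, 9],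
    [2, 3, 4, 6, 8, 9, 10],
    [2, 3, 4, 6, 8, 9, 11],
    [2, 3, 4, 6, 8, 9, 10, 11],
    [2, 3, 4, 5, 11],
    [2, 3, 4, 5, 10, 11],
    [2, 3, 4, 5],
    [2, 3, 4, 5, 10],
    [0],
    [0, 10],
    [0, 11],
    [0, 10, 11],
    [0, 5, 6, 9],
    [0, 5, 6, 9, 10],
    [0, 5, 6, 9, 11],
    [0, 5, 6, 9, 10, 11],
    [0, 4, 5, 7, 8, 9, 11],
    [0, 4, 5, 7, 8, 9, 10, 11],
    [0, 4, 5, 7, 8, 9],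
    [0, 4, 5, 7, 8, 9, 10],
    [0, 4, 6, 7, 8, 11],
    [0, 4, 6, 7, 8, 10, 11],
    [0, 4, 6, 7, 8],
    [0, 4, 6, 7, 8, 10],
    [0, 8, 11],
    [0, 8, 10, 11],
    [0, 8],
    [0, 8, 10],
    [0, 5, 6, 8, 9, 11],
    [0, 5, 6, 8, 9, 10, 11],
    [0, 5, 6, 8, 9],
    [0, 5, 6, 8, 9, 10],
    [0, 4, 5, 7, 9],
    [0, 4, 5, 7, 9, 10],
    [0, 4, 5, 7, 9, 11],
    [0, 4, 5, 7, 9, 10, 11],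
    [0, 4, 6, 7],
    [0, 4, 6, 7, 10],
    [0, 4, 6, 7, 11],
    [0, 4, 6, 7, 10, 11],
    [0, 9, 10],
    [0, 9],
    [0, 9, 10, 11],
    [0, 9, 11],
    [0, 5, 6, 10],
    [0, 5, 6],
    [0, 5, 6, 10, 11],
    [0, 5, 6, 11],
    [0, 4, 5, 7, 8, 10, 11],
    [0, 4, 5, 7, 8, 11],
    [0, 4, 5, 7, 8, 10],
    [0, 4, 5, 7, 8],
    [0, 4, 6, 7, 8, 9, 10, 11],
    [0, 4, 6, 7, 8, 9, 11],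
    [0, 4, 6, 7, 8, 9, 10],
    [0, 4, 6, 7, 8, 9],
    [0, 8, 9, 10, 11],
    [0, 8, 9, 11],
    [0, 8, 9, 10],
    [0, 8, 9],
    [0, 5, 6, 8, 10, 11],
    [0, 5, 6, 8, 11],
    [0, 5, 6, 8, 10],
    [0, 5, 6, 8],
    [0, 4, 5, 7, 10],
    [0, 4, 5, 7],
    [0, 4, 5, 7, 10, 11],
    [0, 4, 5, 7, 11],
    [0, 4, 6, 7, 9, 10],
    [0, 4, 6, 7, 9],
    [0, 4, 6, 7, 9, 10, 11],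
    [0, 4, 6, 7, 9, 11],
    [0, 2, 4, 5, 6, 9],
    [0, 2, 4, 5, 6, 9, 10],
    [0, 2, 4, 5, 6, 9, 11],
    [0, 2, 4, 5, 6, 9, 10, 11],
    [0, 2, 4],
    [0, 2, 4, 10],
    [0, 2, 4, 11],
    [0, 2, 4, 10, 11],
    [0, 2, 6, 7, 8, 10, 11],
    [0, 2, 6, 7, 8, 11],
    [0, 2, 6, 7, 8, 10],
    [0, 2, 6, 7, 8],
    [0, 2, 5, 7, 8, 9, 10, 11],
    [0, 2, 5, 7, 8, 9, 11],
    [0, 2, 5, 7, 8, 9, 10],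
    [0, 2, 5, 7, 8, 9],
    [0, 2, 4, 5, 6, 8, 9, 11],
    [0, 2, 4, 5, 6, 8, 9, 10, 11],
    [0, 2, 4, 5, 6, 8, 9],
    [0, 2, 4, 5, 6, 8, 9, 10],
    [0, 2, 4, 8, 11],
    [0, 2, 4, 8, 10, 11],
    [0, 2, 4, 8],
    [0, 2, 4, 8, 10],
    [0, 2, 6, 7, 10],
    [0, 2, 6, 7],
    [0, 2, 6, 7, 10, 11],
    [0, 2, 6, 7, 11],
    [0, 2, 5, 7, 9, 10],
    [0, 2, 5, 7, 9],
    [0, 2, 5, 7, 9, 10, 11],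
    [0, 2, 5, 7, 9, 11],
    [0, 2, 4, 5, 6, 10],
    [0, 2, 4, 5, 6],
    [0, 2, 4, 5, 6, 10, 11],
    [0, 2, 4, 5, 6, 11],
    [0, 2, 4, 9, 10],
    [0, 2, 4, 9],
    [0, 2, 4, 9, 10, 11],
    [0, 2, 4, 9, 11],
    [0, 2, 6, 7, 8, 9, 11],
    [0, 2, 6, 7, 8, 9, 10, 11],
    [0, 2, 6, 7, 8, 9],
    [0, 2, 6, 7, 8, 9, 10],
    [0, 2, 5, 7, 8, 11],
    [0, 2, 5, 7, 8, 10, 11],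
    [0, 2, 5, 7, 8],
    [0, 2, 5, 7, 8, 10],
    [0, 2, 4, 5, 6, 8, 10, 11],
    [0, 2, 4, 5, 6, 8, 11],
    [0, 2, 4, 5, 6, 8, 10],
    [0, 2, 4, 5, 6, 8],
    [0, 2, 4, 8, 9, 10, 11],
    [0, 2, 4, 8, 9, 11],
    [0, 2, 4, 8, 9, 10],
    [0, 2, 4, 8, 9],
    [0, 2, 6, 7, 9],
    [0, 2, 6, 7, 9, 10],
    [0, 2, 6, 7, 9, 11],
    [0, 2, 6, 7, 9, 10, 11],
    [0, 2, 5, 7],
    [0, 2, 5, 7, 10],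
    [0, 2, 5, 7, 11],
    [0, 2, 5, 7, 10, 11],
    [0, 3, 4, 7, 8, 9, 10],
    [0, 3, 4, 7, 8, 9],
    [0, 3, 4, 7, 8, 9, 10, 11],
    [0, 3, 4, 7, 8, 9, 11],
    [0, 3, 4, 5, 6, 7, 8, 11],
    [0, 3, 4, 5, 6, 7, 8, 10, 11],
    [0, 3, 4, 5, 6, 7, 8],
    [0, 3, 4, 5, 6, 7, 8, 10],
    [0, 3, 5],
    [0, 3, 5, 10],
    [0, 3, 5, 11],
    [0, 3, 5, 10, 11],
    [0, 3, 6, 9, 10, 11],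
    [0, 3, 6, 9, 11],
    [0, 3, 6, 9, 10],
    [0, 3, 6, 9],
    [0, 3, 4, 7, 9, 10, 11],
    [0, 3, 4, 7, 9, 11],
    [0, 3, 4, 7, 9, 10],
    [0, 3, 4, 7, 9],
    [0, 3, 4, 5, 6, 7],
    [0, 3, 4, 5, 6, 7, 10],
    [0, 3, 4, 5, 6, 7, 11],
    [0, 3, 4, 5, 6, 7, 10, 11],
    [0, 3, 5, 8, 11],
    [0, 3, 5, 8, 10, 11],
    [0, 3, 5, 8],
    [0, 3, 5, 8, 10],
    [0, 3, 6, 8, 9, 10],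
    [0, 3, 6, 8, 9],
    [0, 3, 6, 8, 9, 10, 11],
    [0, 3, 6, 8, 9, 11],
    [0, 3, 4, 7, 8],
    [0, 3, 4, 7, 8, 10],
    [0, 3, 4, 7, 8, 11],
    [0, 3, 4, 7, 8, 10, 11],
    [0, 3, 4, 5, 6, 7, 8, 9, 10, 11],
    [0, 3, 4, 5, 6, 7, 8, 9, 11],
    [0, 3, 4, 5, 6, 7, 8, 9, 10],
    [0, 3, 4, 5, 6, 7, 8, 9],
    [0, 3, 5, 9, 10],
    [0, 3, 5, 9],
    [0, 3, 5, 9, 10, 11],
    [0, 3, 5, 9, 11],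
    [0, 3, 6, 11],
    [0, 3, 6, 10, 11],
    [0, 3, 6],
    [0, 3, 6, 10],
    [0, 3, 4, 7, 11],
    [0, 3, 4, 7, 10, 11],
    [0, 3, 4, 7],
    [0, 3, 4, 7, 10],
    [0, 3, 4, 5, 6, 7, 9, 10],
    [0, 3, 4, 5, 6, 7, 9],
    [0, 3, 4, 5, 6, 7, 9, 10, 11],
    [0, 3, 4, 5, 6, 7, 9, 11],
    [0, 3, 5, 8, 9, 10, 11],
    [0, 3, 5, 8, 9, 11],
    [0, 3, 5, 8, 9, 10],
    [0, 3, 5, 8, 9],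
    [0, 3, 6, 8],
    [0, 3, 6, 8, 10],
    [0, 3, 6, 8, 11],
    [0, 3, 6, 8, 10, 11],
    [0, 2, 3, 5, 6, 7, 8, 10],
    [0, 2, 3, 5, 6, 7, 8],
    [0, 2, 3, 5, 6, 7, 8, 10, 11],
    [0, 2, 3, 5, 6, 7, 8, 11],
    [0, 2, 3, 7, 8, 9, 11],
    [0, 2, 3, 7, 8, 9, 10, 11],
    [0, 2, 3, 7, 8, 9],
    [0, 2, 3, 7, 8, 9, 10],
    [0, 2, 3, 4, 6, 9, 10],
    [0, 2, 3, 4, 6, 9],
    [0, 2, 3, 4, 6, 9, 10, 11],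
    [0, 2, 3, 4, 6, 9, 11],
    [0, 2, 3, 4, 5, 11],
    [0, 2, 3, 4, 5, 10, 11],
    [0, 2, 3, 4, 5],
    [0, 2, 3, 4, 5, 10],
    [0, 2, 3, 5, 6, 7, 10, 11],
    [0, 2, 3, 5, 6, 7, 11],
    [0, 2, 3, 5, 6, 7, 10],
    [0, 2, 3, 5, 6, 7],
    [0, 2, 3, 7, 9],
    [0, 2, 3, 7, 9, 10],
    [0, 2, 3, 7, 9, 11],
    [0, 2, 3, 7, 9, 10, 11],
    [0, 2, 3, 4, 6, 8, 9, 10, 11],
    [0, 2, 3, 4, 6, 8, 9, 11],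
    [0, 2, 3, 4, 6, 8, 9, 10],
    [0, 2, 3, 4, 6, 8, 9],
    [0, 2, 3, 4, 5, 8],
    [0, 2, 3, 4, 5, 8, 10],
    [0, 2, 3, 4, 5, 8, 11],
    [0, 2, 3, 4, 5, 8, 10, 11],
    [0, 2, 3, 5, 6, 7, 8, 9],
    [0, 2, 3, 5, 6, 7, 8, 9, 10],
    [0, 2, 3, 5, 6, 7, 8, 9, 11],
    [0, 2, 3, 5, 6, 7, 8, 9, 10, 11],
    [0, 2, 3, 7, 8, 10, 11],
    [0, 2, 3, 7, 8, 11],
    [0, 2, 3, 7, 8, 10],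
    [0, 2, 3, 7, 8],
    [0, 2, 3, 4, 6],
    [0, 2, 3, 4, 6, 10],
    [0, 2, 3, 4, 6, 11],
    [0, 2, 3, 4, 6, 10, 11],
    [0, 2, 3, 4, 5, 9, 10, 11],
    [0, 2, 3, 4, 5, 9, 11],
    [0, 2, 3, 4, 5, 9, 10],
    [0, 2, 3, 4, 5, 9],
    [0, 2, 3, 5, 6, 7, 9, 11],
    [0, 2, 3, 5, 6, 7, 9, 10, 11],
    [0, 2, 3, 5, 6, 7, 9],
    [0, 2, 3, 5, 6, 7, 9, 10],
    [0, 2, 3, 7, 10],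
    [0, 2, 3, 7],
    [0, 2, 3, 7, 10, 11],
    [0, 2, 3, 7, 11],
    [0, 2, 3, 4, 6, 8, 11],
    [0, 2, 3, 4, 6, 8, 10, 11],
    [0, 2, 3, 4, 6, 8],
    [0, 2, 3, 4, 6, 8, 10],
    [0, 2, 3, 4, 5, 8, 9, 10],
    [0, 2, 3, 4, 5, 8, 9],
    [0, 2, 3, 4, 5, 8, 9, 10, 11],
    [0, 2, 3, 4, 5, 8, 9, 11],
    [0, 4, 5, 6, 9],
    [0, 4, 5, 6, 9, 10],
    [0, 4, 5, 6, 9, 11],
    [0, 4, 5, 6, 9, 10, 11],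
    [0, 4, 10],
    [0, 4],
    [0, 4, 10, 11],
    [0, 4, 11],
    [0, 6, 7, 8, 10],
    [0, 6, 7, 8],
    [0, 6, 7, 8, 10, 11],
    [0, 6, 7, 8, 11],
    [0, 5, 7, 8, 9],
    [0, 5, 7, 8, 9, 10],
    [0, 5, 7, 8, 9, 11],
    [0, 5, 7, 8, 9, 10, 11],
    [0, 4, 5, 6, 8, 9, 11],
    [0, 4, 5, 6, 8, 9, 10, 11],
    [0, 4, 5, 6, 8, 9],
    [0, 4, 5, 6, 8, 9, 10],
    [0, 4, 8, 10, 11],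
    [0, 4, 8, 11],
    [0, 4, 8, 10],
    [0, 4, 8],
    [0, 6, 7, 10, 11],
    [0, 6, 7, 11],
    [0, 6, 7, 10],
    [0, 6, 7],
    [0, 5, 7, 9, 11],
    [0, 5, 7, 9, 10, 11],
    [0, 5, 7, 9],
    [0, 5, 7, 9, 10],
    [0, 4, 5, 6, 10],
    [0, 4, 5, 6],
    [0, 4, 5, 6, 10, 11],
    [0, 4, 5, 6, 11],
    [0, 4, 9],
    [0, 4, 9, 10],
    [0, 4, 9, 11],
    [0, 4, 9, 10, 11],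
    [0, 6, 7, 8, 9],
    [0, 6, 7, 8, 9, 10],
    [0, 6, 7, 8, 9, 11],
    [0, 6, 7, 8, 9, 10, 11],
    [0, 5, 7, 8, 10],
    [0, 5, 7, 8],
    [0, 5, 7, 8, 10, 11],
    [0, 5, 7, 8, 11],
    [0, 4, 5, 6, 8, 10, 11],
    [0, 4, 5, 6, 8, 11],
    [0, 4, 5, 6, 8, 10],
    [0, 4, 5, 6, 8],
    [0, 4, 8, 9, 11],
    [0, 4, 8, 9, 10, 11],
    [0, 4, 8, 9],
    [0, 4, 8, 9, 10],
    [0, 6, 7, 9, 11],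
    [0, 6, 7, 9, 10, 11],
    [0, 6, 7, 9],
    [0, 6, 7, 9, 10],
    [0, 5, 7, 10, 11],
    [0, 5, 7, 11],
    [0, 5, 7, 10],
    [0, 5, 7],
    [0, 2],
    [0, 2, 10],
    [0, 2, 11],
    [0, 2, 10, 11],
    [0, 2, 5, 6, 9, 10],
    [0, 2, 5, 6, 9],
    [0, 2, 5, 6, 9, 10, 11],
    [0, 2, 5, 6, 9, 11],
    [0, 2, 4, 5, 7, 8, 9],
    [0, 2, 4, 5, 7, 8, 9, 10],
    [0, 2, 4, 5, 7, 8, 9, 11],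
    [0, 2, 4, 5, 7, 8, 9, 10, 11],
    [0, 2, 4, 6, 7, 8, 10],
    [0, 2, 4, 6, 7, 8],
    [0, 2, 4, 6, 7, 8, 10, 11],
    [0, 2, 4, 6, 7, 8, 11],
    [0, 2, 8, 11],
    [0, 2, 8, 10, 11],
    [0, 2, 8],
    [0, 2, 8, 10],
    [0, 2, 5, 6, 8, 9, 10, 11],
    [0, 2, 5, 6, 8, 9, 11],
    [0, 2, 5, 6, 8, 9, 10],
    [0, 2, 5, 6, 8, 9],
    [0, 2, 4, 5, 7, 9, 11],
    [0, 2, 4, 5, 7, 9, 10, 11],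
    [0, 2, 4, 5, 7, 9],
    [0, 2, 4, 5, 7, 9, 10],
    [0, 2, 4, 6, 7, 10, 11],
    [0, 2, 4, 6, 7, 11],
    [0, 2, 4, 6, 7, 10],
    [0, 2, 4, 6, 7],
    [0, 2, 9, 10],
    [0, 2, 9],
    [0, 2, 9, 10, 11],
    [0, 2, 9, 11],
    [0, 2, 5, 6],
    [0, 2, 5, 6, 10],
    [0, 2, 5, 6, 11],
    [0, 2, 5, 6, 10, 11],
    [0, 2, 4, 5, 7, 8, 10],
    [0, 2, 4, 5, 7, 8],
    [0, 2, 4, 5, 7, 8, 10, 11],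
    [0, 2, 4, 5, 7, 8, 11],
    [0, 2, 4, 6, 7, 8, 9],
    [0, 2, 4, 6, 7, 8, 9, 10],
    [0, 2, 4, 6, 7, 8, 9, 11],
    [0, 2, 4, 6, 7, 8, 9, 10, 11],
    [0, 2, 8, 9, 10, 11],
    [0, 2, 8, 9, 11],
    [0, 2, 8, 9, 10],
    [0, 2, 8, 9],
    [0, 2, 5, 6, 8, 11],
    [0, 2, 5, 6, 8, 10, 11],
    [0, 2, 5, 6, 8],
    [0, 2, 5, 6, 8, 10],
    [0, 2, 4, 5, 7, 10, 11],
    [0, 2, 4, 5, 7, 11],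
    [0, 2, 4, 5, 7, 10],
    [0, 2, 4, 5, 7],
    [0, 2, 4, 6, 7, 9, 11],
    [0, 2, 4, 6, 7, 9, 10, 11],
    [0, 2, 4, 6, 7, 9],
    [0, 2, 4, 6, 7, 9, 10],
    [0, 3, 5, 6, 7, 8, 10],
    [0, 3, 5, 6, 7, 8],
    [0, 3, 5, 6, 7, 8, 10, 11],
    [0, 3, 5, 6, 7, 8, 11],
    [0, 3, 7, 8, 9, 10, 11],
    [0, 3, 7, 8, 9, 11],
    [0, 3, 7, 8, 9, 10],
    [0, 3, 7, 8, 9],
    [0, 3, 4, 6, 9, 10, 11],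
    [0, 3, 4, 6, 9, 11],
    [0, 3, 4, 6, 9, 10],
    [0, 3, 4, 6, 9],
    [0, 3, 4, 5, 10],
    [0, 3, 4, 5],
    [0, 3, 4, 5, 10, 11],
    [0, 3, 4, 5, 11],
    [0, 3, 5, 6, 7, 10, 11],
    [0, 3, 5, 6, 7, 11],
    [0, 3, 5, 6, 7, 10],
    [0, 3, 5, 6, 7],
    [0, 3, 7, 9, 10],
    [0, 3, 7, 9],
    [0, 3, 7, 9, 10, 11],
    [0, 3, 7, 9, 11],
    [0, 3, 4, 6, 8, 9, 10],
    [0, 3, 4, 6, 8, 9],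
    [0, 3, 4, 6, 8, 9, 10, 11],
    [0, 3, 4, 6, 8, 9, 11],
    [0, 3, 4, 5, 8, 10, 11],
    [0, 3, 4, 5, 8, 11],
    [0, 3, 4, 5, 8, 10],
    [0, 3, 4, 5, 8],
    [0, 3, 5, 6, 7, 8, 9],
    [0, 3, 5, 6, 7, 8, 9, 10],
    [0, 3, 5, 6, 7, 8, 9, 11],
    [0, 3, 5, 6, 7, 8, 9, 10, 11],
    [0, 3, 7, 8, 11],
    [0, 3, 7, 8, 10, 11],
    [0, 3, 7, 8],
    [0, 3, 7, 8, 10],
    [0, 3, 4, 6, 11],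
    [0, 3, 4, 6, 10, 11],
    [0, 3, 4, 6],
    [0, 3, 4, 6, 10],
    [0, 3, 4, 5, 9],
    [0, 3, 4, 5, 9, 10],
    [0, 3, 4, 5, 9, 11],
    [0, 3, 4, 5, 9, 10, 11],
    [0, 3, 5, 6, 7, 9, 11],
    [0, 3, 5, 6, 7, 9, 10, 11],
    [0, 3, 5, 6, 7, 9],
    [0, 3, 5, 6, 7, 9, 10],
    [0, 3, 7],
    [0, 3, 7, 10],
    [0, 3, 7, 11],
    [0, 3, 7, 10, 11],
    [0, 3, 4, 6, 8],
    [0, 3, 4, 6, 8, 10],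
    [0, 3, 4, 6, 8, 11],
    [0, 3, 4, 6, 8, 10, 11],
    [0, 3, 4, 5, 8, 9, 11],
    [0, 3, 4, 5, 8, 9, 10, 11],
    [0, 3, 4, 5, 8, 9],
    [0, 3, 4, 5, 8, 9, 10],
    [0, 2, 3, 4, 7, 8, 9, 10],
    [0, 2, 3, 4, 7, 8, 9],
    [0, 2, 3, 4, 7, 8, 9, 10, 11],
    [0, 2, 3, 4, 7, 8, 9, 11],
    [0, 2, 3, 4, 5, 6, 7, 8, 10, 11],
    [0, 2, 3, 4, 5, 6, 7, 8, 11],
    [0, 2, 3, 4, 5, 6, 7, 8, 10],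
    [0, 2, 3, 4, 5, 6, 7, 8],
    [0, 2, 3, 5, 11],
    [0, 2, 3, 5, 10, 11],
    [0, 2, 3, 5],
    [0, 2, 3, 5, 10],
    [0, 2, 3, 6, 9],
    [0, 2, 3, 6, 9, 10],
    [0, 2, 3, 6, 9, 11],
    [0, 2, 3, 6, 9, 10, 11],
    [0, 2, 3, 4, 7, 9, 10, 11],
    [0, 2, 3, 4, 7, 9, 11],
    [0, 2, 3, 4, 7, 9, 10],
    [0, 2, 3, 4, 7, 9],
    [0, 2, 3, 4, 5, 6, 7, 10],
    [0, 2, 3, 4, 5, 6, 7],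
    [0, 2, 3, 4, 5, 6, 7, 10, 11],
    [0, 2, 3, 4, 5, 6, 7, 11],
    [0, 2, 3, 5, 8],
    [0, 2, 3, 5, 8, 10],
    [0, 2, 3, 5, 8, 11],
    [0, 2, 3, 5, 8, 10, 11],
    [0, 2, 3, 6, 8, 9, 11],
    [0, 2, 3, 6, 8, 9, 10, 11],
    [0, 2, 3, 6, 8, 9],
    [0, 2, 3, 6, 8, 9, 10],
    [0, 2, 3, 4, 7, 8],
    [0, 2, 3, 4, 7, 8, 10],
    [0, 2, 3, 4, 7, 8, 11],
    [0, 2, 3, 4, 7, 8, 10, 11],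
    [0, 2, 3, 4, 5, 6, 7, 8, 9, 11],
    [0, 2, 3, 4, 5, 6, 7, 8, 9, 10, 11],
    [0, 2, 3, 4, 5, 6, 7, 8, 9],
    [0, 2, 3, 4, 5, 6, 7, 8, 9, 10],
    [0, 2, 3, 5, 9, 10, 11],
    [0, 2, 3, 5, 9, 11],
    [0, 2, 3, 5, 9, 10],
    [0, 2, 3, 5, 9],
    [0, 2, 3, 6, 10],
    [0, 2, 3, 6],
    [0, 2, 3, 6, 10, 11],
    [0, 2, 3, 6, 11],
    [0, 2, 3, 4, 7, 11],
    [0, 2, 3, 4, 7, 10, 11],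
    [0, 2, 3, 4, 7],
    [0, 2, 3, 4, 7, 10],
    [0, 2, 3, 4, 5, 6, 7, 9],
    [0, 2, 3, 4, 5, 6, 7, 9, 10],
    [0, 2, 3, 4, 5, 6, 7, 9, 11],
    [0, 2, 3, 4, 5, 6, 7, 9, 10, 11],
    [0, 2, 3, 5, 8, 9, 10],
    [0, 2, 3, 5, 8, 9],
    [0, 2, 3, 5, 8, 9, 10, 11],
    [0, 2, 3, 5, 8, 9, 11],
    [0, 2, 3, 6, 8, 10, 11],
    [0, 2, 3, 6, 8, 11],
    [0, 2, 3, 6, 8, 10],
    [0, 2, 3, 6, 8],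
    [0, 4, 7, 8, 9, 10],
    [0, 4, 7, 8, 9],
    [0, 4, 7, 8, 9, 10, 11],
    [0, 4, 7, 8, 9, 11],
    [0, 4, 5, 6, 7, 8],
    [0, 4, 5, 6, 7, 8, 10],
    [0, 4, 5, 6, 7, 8, 11],
    [0, 4, 5, 6, 7, 8, 10, 11],
    [0, 5, 10, 11],
    [0, 5, 11],
    [0, 5, 10],
    [0, 5],
    [0, 6, 9, 11],
    [0, 6, 9, 10, 11],
    [0, 6, 9],
    [0, 6, 9, 10],
    [0, 4, 7, 9, 10, 11],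
    [0, 4, 7, 9, 11],
    [0, 4, 7, 9, 10],
    [0, 4, 7, 9],
    [0, 4, 5, 6, 7, 11],
    [0, 4, 5, 6, 7, 10, 11],
    [0, 4, 5, 6, 7],
    [0, 4, 5, 6, 7, 10],
    [0, 5, 8, 10],
    [0, 5, 8],
    [0, 5, 8, 10, 11],
    [0, 5, 8, 11],
    [0, 6, 8, 9],
    [0, 6, 8, 9, 10],
    [0, 6, 8, 9, 11],
    [0, 6, 8, 9, 10, 11],
    [0, 4, 7, 8],
    [0, 4, 7, 8, 10],
    [0, 4, 7, 8, 11],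
    [0, 4, 7, 8, 10, 11],
    [0, 4, 5, 6, 7, 8, 9, 10],
    [0, 4, 5, 6, 7, 8, 9],
    [0, 4, 5, 6, 7, 8, 9, 10, 11],
    [0, 4, 5, 6, 7, 8, 9, 11],
    [0, 5, 9, 11],
    [0, 5, 9, 10, 11],
    [0, 5, 9],
    [0, 5, 9, 10],
    [0, 6, 10, 11],
    [0, 6, 11],
    [0, 6, 10],
    [0, 6],
    [0, 4, 7, 11],
    [0, 4, 7, 10, 11],
    [0, 4, 7],
    [0, 4, 7, 10],
    [0, 4, 5, 6, 7, 9, 10, 11],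
    [0, 4, 5, 6, 7, 9, 11],
    [0, 4, 5, 6, 7, 9, 10],
    [0, 4, 5, 6, 7, 9],
    [0, 5, 8, 9],
    [0, 5, 8, 9, 10],
    [0, 5, 8, 9, 11],
    [0, 5, 8, 9, 10, 11],
    [0, 6, 8, 10],
    [0, 6, 8],
    [0, 6, 8, 10, 11],
    [0, 6, 8, 11],
    [0, 2, 5, 6, 7, 8, 10],
    [0, 2, 5, 6, 7, 8],
    [0, 2, 5, 6, 7, 8, 10, 11],
    [0, 2, 5, 6, 7, 8, 11],
    [0, 2, 7, 8, 9],
    [0, 2, 7, 8, 9, 10],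
    [0, 2, 7, 8, 9, 11],
    [0, 2, 7, 8, 9, 10, 11],
    [0, 2, 4, 6, 9, 11],
    [0, 2, 4, 6, 9, 10, 11],
    [0, 2, 4, 6, 9],
    [0, 2, 4, 6, 9, 10],
    [0, 2, 4, 5, 10, 11],
    [0, 2, 4, 5, 11],
    [0, 2, 4, 5, 10],
    [0, 2, 4, 5],
    [0, 2, 5, 6, 7, 10, 11],
    [0, 2, 5, 6, 7, 11],
    [0, 2, 5, 6, 7, 10],
    [0, 2, 5, 6, 7],
    [0, 2, 7, 9, 11],
    [0, 2, 7, 9, 10, 11],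
    [0, 2, 7, 9],
    [0, 2, 7, 9, 10],
    [0, 2, 4, 6, 8, 9],
    [0, 2, 4, 6, 8, 9, 10],
    [0, 2, 4, 6, 8, 9, 11],
    [0, 2, 4, 6, 8, 9, 10, 11],
    [0, 2, 4, 5, 8, 10],
    [0, 2, 4, 5, 8],
    [0, 2, 4, 5, 8, 10, 11],
    [0, 2, 4, 5, 8, 11],
    [0, 2, 5, 6, 7, 8, 9],
    [0, 2, 5, 6, 7, 8, 9, 10],
    [0, 2, 5, 6, 7, 8, 9, 11],
    [0, 2, 5, 6, 7, 8, 9, 10, 11],
    [0, 2, 7, 8, 10],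
    [0, 2, 7, 8],
    [0, 2, 7, 8, 10, 11],
    [0, 2, 7, 8, 11],
    [0, 2, 4, 6, 10, 11],
    [0, 2, 4, 6, 11],
    [0, 2, 4, 6, 10],
    [0, 2, 4, 6],
    [0, 2, 4, 5, 9, 11],
    [0, 2, 4, 5, 9, 10, 11],
    [0, 2, 4, 5, 9],
    [0, 2, 4, 5, 9, 10],
    [0, 2, 5, 6, 7, 9, 11],
    [0, 2, 5, 6, 7, 9, 10, 11],
    [0, 2, 5, 6, 7, 9],
    [0, 2, 5, 6, 7, 9, 10],
    [0, 2, 7, 10, 11],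
    [0, 2, 7, 11],
    [0, 2, 7, 10],
    [0, 2, 7],
    [0, 2, 4, 6, 8, 10],
    [0, 2, 4, 6, 8],
    [0, 2, 4, 6, 8, 10, 11],
    [0, 2, 4, 6, 8, 11],
    [0, 2, 4, 5, 8, 9],
    [0, 2, 4, 5, 8, 9, 10],
    [0, 2, 4, 5, 8, 9, 11],
    [0, 2, 4, 5, 8, 9, 10, 11],
    [0, 3],
    [0, 3, 10],
    [0, 3, 11],
    [0, 3, 10, 11],
    [0, 3, 5, 6, 9, 11],
    [0, 3, 5, 6, 9, 10, 11],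
    [0, 3, 5, 6, 9],
    [0, 3, 5, 6, 9, 10],
    [0, 3, 4, 5, 7, 8, 9, 10],
    [0, 3, 4, 5, 7, 8, 9],
    [0, 3, 4, 5, 7, 8, 9, 10, 11],
    [0, 3, 4, 5, 7, 8, 9, 11],
    [0, 3, 4, 6, 7, 8, 10, 11],
    [0, 3, 4, 6, 7, 8, 11],
    [0, 3, 4, 6, 7, 8, 10],
    [0, 3, 4, 6, 7, 8],
    [0, 3, 8, 11],
    [0, 3, 8, 10, 11],
    [0, 3, 8],
    [0, 3, 8, 10],
    [0, 3, 5, 6, 8, 9],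
    [0, 3, 5, 6, 8, 9, 10],
    [0, 3, 5, 6, 8, 9, 11],
    [0, 3, 5, 6, 8, 9, 10, 11],
    [0, 3, 4, 5, 7, 9, 10, 11],
    [0, 3, 4, 5, 7, 9, 11],
    [0, 3, 4, 5, 7, 9, 10],
    [0, 3, 4, 5, 7, 9],
    [0, 3, 4, 6, 7, 10],
    [0, 3, 4, 6, 7],
    [0, 3, 4, 6, 7, 10, 11],
    [0, 3, 4, 6, 7, 11],
    [0, 3, 9, 10],
    [0, 3, 9],
    [0, 3, 9, 10, 11],
    [0, 3, 9, 11],
    [0, 3, 5, 6, 10, 11],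
    [0, 3, 5, 6, 11],
    [0, 3, 5, 6, 10],
    [0, 3, 5, 6],
    [0, 3, 4, 5, 7, 8],
    [0, 3, 4, 5, 7, 8, 10],
    [0, 3, 4, 5, 7, 8, 11],
    [0, 3, 4, 5, 7, 8, 10, 11],
    [0, 3, 4, 6, 7, 8, 9, 11],
    [0, 3, 4, 6, 7, 8, 9, 10, 11],
    [0, 3, 4, 6, 7, 8, 9],
    [0, 3, 4, 6, 7, 8, 9, 10],
    [0, 3, 8, 9, 10, 11],
    [0, 3, 8, 9, 11],
    [0, 3, 8, 9, 10],
    [0, 3, 8, 9],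
    [0, 3, 5, 6, 8, 10],
    [0, 3, 5, 6, 8],
    [0, 3, 5, 6, 8, 10, 11],
    [0, 3, 5, 6, 8, 11],
    [0, 3, 4, 5, 7, 11],
    [0, 3, 4, 5, 7, 10, 11],
    [0, 3, 4, 5, 7],
    [0, 3, 4, 5, 7, 10],
    [0, 3, 4, 6, 7, 9],
    [0, 3, 4, 6, 7, 9, 10],
    [0, 3, 4, 6, 7, 9, 11],
    [0, 3, 4, 6, 7, 9, 10, 11],
    [0, 2, 3, 4, 5, 6, 9],
    [0, 2, 3, 4, 5, 6, 9, 10],
    [0, 2, 3, 4, 5, 6, 9, 11],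
    [0, 2, 3, 4, 5, 6, 9, 10, 11],
    [0, 2, 3, 4, 11],
    [0, 2, 3, 4, 10, 11],
    [0, 2, 3, 4],
    [0, 2, 3, 4, 10],
    [0, 2, 3, 6, 7, 8],
    [0, 2, 3, 6, 7, 8, 10],
    [0, 2, 3, 6, 7, 8, 11],
    [0, 2, 3, 6, 7, 8, 10, 11],
    [0, 2, 3, 5, 7, 8, 9, 11],
    [0, 2, 3, 5, 7, 8, 9, 10, 11],
    [0, 2, 3, 5, 7, 8, 9],
    [0, 2, 3, 5, 7, 8, 9, 10],
    [0, 2, 3, 4, 5, 6, 8, 9, 11],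
    [0, 2, 3, 4, 5, 6, 8, 9, 10, 11],
    [0, 2, 3, 4, 5, 6, 8, 9],
    [0, 2, 3, 4, 5, 6, 8, 9, 10],
    [0, 2, 3, 4, 8],
    [0, 2, 3, 4, 8, 10],
    [0, 2, 3, 4, 8, 11],
    [0, 2, 3, 4, 8, 10, 11],
    [0, 2, 3, 6, 7, 11],
    [0, 2, 3, 6, 7, 10, 11],
    [0, 2, 3, 6, 7],
    [0, 2, 3, 6, 7, 10],
    [0, 2, 3, 5, 7, 9],
    [0, 2, 3, 5, 7, 9, 10],
    [0, 2, 3, 5, 7, 9, 11],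
    [0, 2, 3, 5, 7, 9, 10, 11],
    [0, 2, 3, 4, 5, 6, 10],
    [0, 2, 3, 4, 5, 6],
    [0, 2, 3, 4, 5, 6, 10, 11],
    [0, 2, 3, 4, 5, 6, 11],
    [0, 2, 3, 4, 9, 10, 11],
    [0, 2, 3, 4, 9, 11],
    [0, 2, 3, 4, 9, 10],
    [0, 2, 3, 4, 9],
    [0, 2, 3, 6, 7, 8, 9, 10],
    [0, 2, 3, 6, 7, 8, 9],
    [0, 2, 3, 6, 7, 8, 9, 10, 11],
    [0, 2, 3, 6, 7, 8, 9, 11],
    [0, 2, 3, 5, 7, 8, 10, 11],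
    [0, 2, 3, 5, 7, 8, 11],
    [0, 2, 3, 5, 7, 8, 10],
    [0, 2, 3, 5, 7, 8],
    [0, 2, 3, 4, 5, 6, 8, 10, 11],
    [0, 2, 3, 4, 5, 6, 8, 11],
    [0, 2, 3, 4, 5, 6, 8, 10],
    [0, 2, 3, 4, 5, 6, 8],
    [0, 2, 3, 4, 8, 9, 10],
    [0, 2, 3, 4, 8, 9],
    [0, 2, 3, 4, 8, 9, 10, 11],
    [0, 2, 3, 4, 8, 9, 11],
    [0, 2, 3, 6, 7, 9, 10, 11],
    [0, 2, 3, 6, 7, 9, 11],
    [0, 2, 3, 6, 7, 9, 10],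
    [0, 2, 3, 6, 7, 9],
    [0, 2, 3, 5, 7, 10],
    [0, 2, 3, 5, 7],
    [0, 2, 3, 5, 7, 10, 11],
    [0, 2, 3, 5, 7, 11],
    [0, 5, 6, 7, 8, 10],
    [0, 5, 6, 7, 8],
    [0, 5, 6, 7, 8, 10, 11],
    [0, 5, 6, 7, 8, 11],
    [0, 7, 8, 9, 10],
    [0, 7, 8, 9],
    [0, 7, 8, 9, 10, 11],
    [0, 7, 8, 9, 11],
    [0, 4, 6, 9],
    [0, 4, 6, 9, 10],
    [0, 4, 6, 9, 11],
    [0, 4, 6, 9, 10, 11],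
    [0, 4, 5],
    [0, 4, 5, 10],
    [0, 4, 5, 11],
    [0, 4, 5, 10, 11],
    [0, 5, 6, 7, 10, 11],
    [0, 5, 6, 7, 11],
    [0, 5, 6, 7, 10],
    [0, 5, 6, 7],
    [0, 7, 9, 10, 11],
    [0, 7, 9, 11],
    [0, 7, 9, 10],
    [0, 7, 9],
    [0, 4, 6, 8, 9, 11],
    [0, 4, 6, 8, 9, 10, 11],
    [0, 4, 6, 8, 9],
    [0, 4, 6, 8, 9, 10],
    [0, 4, 5, 8, 11],
    [0, 4, 5, 8, 10, 11],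
    [0, 4, 5, 8],
    [0, 4, 5, 8, 10],
    [0, 5, 6, 7, 8, 9],
    [0, 5, 6, 7, 8, 9, 10],
    [0, 5, 6, 7, 8, 9, 11],
    [0, 5, 6, 7, 8, 9, 10, 11],
    [0, 7, 8],
    [0, 7, 8, 10],
    [0, 7, 8, 11],
    [0, 7, 8, 10, 11],
    [0, 4, 6, 10],
    [0, 4, 6],
    [0, 4, 6, 10, 11],
    [0, 4, 6, 11],
    [0, 4, 5, 9, 10],
    [0, 4, 5, 9],
    [0, 4, 5, 9, 10, 11],
    [0, 4, 5, 9, 11],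
    [0, 5, 6, 7, 9, 11],
    [0, 5, 6, 7, 9, 10, 11],
    [0, 5, 6, 7, 9],
    [0, 5, 6, 7, 9, 10],
    [0, 7, 11],
    [0, 7, 10, 11],
    [0, 7],
    [0, 7, 10],
    [0, 4, 6, 8, 10, 11],
    [0, 4, 6, 8, 11],
    [0, 4, 6, 8, 10],
    [0, 4, 6, 8],
    [0, 4, 5, 8, 9, 10, 11],
    [0, 4, 5, 8, 9, 11],
    [0, 4, 5, 8, 9, 10],
    [0, 4, 5, 8, 9],
    [0, 2, 4, 7, 8, 9, 10],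
    [0, 2, 4, 7, 8, 9],
    [0, 2, 4, 7, 8, 9, 10, 11],
    [0, 2, 4, 7, 8, 9, 11],
    [0, 2, 4, 5, 6, 7, 8, 10],
    [0, 2, 4, 5, 6, 7, 8],
    [0, 2, 4, 5, 6, 7, 8, 10, 11],
    [0, 2, 4, 5, 6, 7, 8, 11],
    [0, 2, 5, 10],
    [0, 2, 5],
    [0, 2, 5, 10, 11],
    [0, 2, 5, 11],
    [0, 2, 6, 9, 10],
    [0, 2, 6, 9],
    [0, 2, 6, 9, 10, 11],
    [0, 2, 6, 9, 11],
    [0, 2, 4, 7, 9, 10, 11],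
    [0, 2, 4, 7, 9, 11],
    [0, 2, 4, 7, 9, 10],
    [0, 2, 4, 7, 9],
    [0, 2, 4, 5, 6, 7, 10, 11],
    [0, 2, 4, 5, 6, 7, 11],
    [0, 2, 4, 5, 6, 7, 10],
    [0, 2, 4, 5, 6, 7],
    [0, 2, 5, 8, 10, 11],
    [0, 2, 5, 8, 11],
    [0, 2, 5, 8, 10],
    [0, 2, 5, 8],
    [0, 2, 6, 8, 9, 10, 11],
    [0, 2, 6, 8, 9, 11],
    [0, 2, 6, 8, 9, 10],
    [0, 2, 6, 8, 9],
    [0, 2, 4, 7, 8],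
    [0, 2, 4, 7, 8, 10],
    [0, 2, 4, 7, 8, 11],
    [0, 2, 4, 7, 8, 10, 11],
    [0, 2, 4, 5, 6, 7, 8, 9],
    [0, 2, 4, 5, 6, 7, 8, 9, 10],
    [0, 2, 4, 5, 6, 7, 8, 9, 11],
    [0, 2, 4, 5, 6, 7, 8, 9, 10, 11],
    [0, 2, 5, 9],
    [0, 2, 5, 9, 10],
    [0, 2, 5, 9, 11],
    [0, 2, 5, 9, 10, 11],
    [0, 2, 6],
    [0, 2, 6, 10],
    [0, 2, 6, 11],
    [0, 2, 6, 10, 11],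
    [0, 2, 4, 7, 11],
    [0, 2, 4, 7, 10, 11],
    [0, 2, 4, 7],
    [0, 2, 4, 7, 10],
    [0, 2, 4, 5, 6, 7, 9, 11],
    [0, 2, 4, 5, 6, 7, 9, 10, 11],
    [0, 2, 4, 5, 6, 7, 9],
    [0, 2, 4, 5, 6, 7, 9, 10],
    [0, 2, 5, 8, 9, 11],
    [0, 2, 5, 8, 9, 10, 11],
    [0, 2, 5, 8, 9],
    [0, 2, 5, 8, 9, 10],
    [0, 2, 6, 8, 11],
    [0, 2, 6, 8, 10, 11],
    [0, 2, 6, 8],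
    [0, 2, 6, 8, 10],
    [0, 3, 4, 5, 6, 9],
    [0, 3, 4, 5, 6, 9, 10],
    [0, 3, 4, 5, 6, 9, 11],
    [0, 3, 4, 5, 6, 9, 10, 11],
    [0, 3, 4, 10, 11],
    [0, 3, 4, 11],
    [0, 3, 4, 10],
    [0, 3, 4],
    [0, 3, 6, 7, 8, 11],
    [0, 3, 6, 7, 8, 10, 11],
    [0, 3, 6, 7, 8],
    [0, 3, 6, 7, 8, 10],
    [0, 3, 5, 7, 8, 9, 10],
    [0, 3, 5, 7, 8, 9],
    [0, 3, 5, 7, 8, 9, 10, 11],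
    [0, 3, 5, 7, 8, 9, 11],
    [0, 3, 4, 5, 6, 8, 9, 11],
    [0, 3, 4, 5, 6, 8, 9, 10, 11],
    [0, 3, 4, 5, 6, 8, 9],
    [0, 3, 4, 5, 6, 8, 9, 10],
    [0, 3, 4, 8, 10],
    [0, 3, 4, 8],
    [0, 3, 4, 8, 10, 11],
    [0, 3, 4, 8, 11],
    [0, 3, 6, 7],
    [0, 3, 6, 7, 10],
    [0, 3, 6, 7, 11],
    [0, 3, 6, 7, 10, 11],
    [0, 3, 5, 7, 9, 10, 11],
    [0, 3, 5, 7, 9, 11],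
    [0, 3, 5, 7, 9, 10],
    [0, 3, 5, 7, 9],
    [0, 3, 4, 5, 6, 10],
    [0, 3, 4, 5, 6],
    [0, 3, 4, 5, 6, 10, 11],
    [0, 3, 4, 5, 6, 11],
    [0, 3, 4, 9, 11],
    [0, 3, 4, 9, 10, 11],
    [0, 3, 4, 9],
    [0, 3, 4, 9, 10],
    [0, 3, 6, 7, 8, 9, 10, 11],
    [0, 3, 6, 7, 8, 9, 11],
    [0, 3, 6, 7, 8, 9, 10],
    [0, 3, 6, 7, 8, 9],
    [0, 3, 5, 7, 8],
    [0, 3, 5, 7, 8, 10],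
    [0, 3, 5, 7, 8, 11],
    [0, 3, 5, 7, 8, 10, 11],
    [0, 3, 4, 5, 6, 8, 10, 11],
    [0, 3, 4, 5, 6, 8, 11],
    [0, 3, 4, 5, 6, 8, 10],
    [0, 3, 4, 5, 6, 8],
    [0, 3, 4, 8, 9],
    [0, 3, 4, 8, 9, 10],
    [0, 3, 4, 8, 9, 11],
    [0, 3, 4, 8, 9, 10, 11],
    [0, 3, 6, 7, 9, 10],
    [0, 3, 6, 7, 9],
    [0, 3, 6, 7, 9, 10, 11],
    [0, 3, 6, 7, 9, 11],
    [0, 3, 5, 7, 11],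
    [0, 3, 5, 7, 10, 11],
    [0, 3, 5, 7],
    [0, 3, 5, 7, 10],
    [0, 2, 3],
    [0, 2, 3, 10],
    [0, 2, 3, 11],
    [0, 2, 3, 10, 11],
    [0, 2, 3, 5, 6, 9, 10, 11],
    [0, 2, 3, 5, 6, 9, 11],
    [0, 2, 3, 5, 6, 9, 10],
    [0, 2, 3, 5, 6, 9],
    [0, 2, 3, 4, 5, 7, 8, 9, 10, 11],
    [0, 2, 3, 4, 5, 7, 8, 9, 11],
    [0, 2, 3, 4, 5, 7, 8, 9, 10],
    [0, 2, 3, 4, 5, 7, 8, 9],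
    [0, 2, 3, 4, 6, 7, 8],
    [0, 2, 3, 4, 6, 7, 8, 10],
    [0, 2, 3, 4, 6, 7, 8, 11],
    [0, 2, 3, 4, 6, 7, 8, 10, 11],
    [0, 2, 3, 8, 11],
    [0, 2, 3, 8, 10, 11],
    [0, 2, 3, 8],
    [0, 2, 3, 8, 10],
    [0, 2, 3, 5, 6, 8, 9, 10],
    [0, 2, 3, 5, 6, 8, 9],
    [0, 2, 3, 5, 6, 8, 9, 10, 11],
    [0, 2, 3, 5, 6, 8, 9, 11],
    [0, 2, 3, 4, 5, 7, 9, 10],
    [0, 2, 3, 4, 5, 7, 9],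
    [0, 2, 3, 4, 5, 7, 9, 10, 11],
    [0, 2, 3, 4, 5, 7, 9, 11],
    [0, 2, 3, 4, 6, 7, 11],
    [0, 2, 3, 4, 6, 7, 10, 11],
    [0, 2, 3, 4, 6, 7],
    [0, 2, 3, 4, 6, 7, 10],
    [0, 2, 3, 9, 10],
    [0, 2, 3, 9],
    [0, 2, 3, 9, 10, 11],
    [0, 2, 3, 9, 11],
    [0, 2, 3, 5, 6, 11],
    [0, 2, 3, 5, 6, 10, 11],
    [0, 2, 3, 5, 6],
    [0, 2, 3, 5, 6, 10],
    [0, 2, 3, 4, 5, 7, 8, 11],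
    [0, 2, 3, 4, 5, 7, 8, 10, 11],
    [0, 2, 3, 4, 5, 7, 8],
    [0, 2, 3, 4, 5, 7, 8, 10],
    [0, 2, 3, 4, 6, 7, 8, 9, 10],
    [0, 2, 3, 4, 6, 7, 8, 9],
    [0, 2, 3, 4, 6, 7, 8, 9, 10, 11],
    [0, 2, 3, 4, 6, 7, 8, 9, 11],
    [0, 2, 3, 8, 9, 10, 11],
    [0, 2, 3, 8, 9, 11],
    [0, 2, 3, 8, 9, 10],
    [0, 2, 3, 8, 9],
    [0, 2, 3, 5, 6, 8],
    [0, 2, 3, 5, 6, 8, 10],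
    [0, 2, 3, 5, 6, 8, 11],
    [0, 2, 3, 5, 6, 8, 10, 11],
    [0, 2, 3, 4, 5, 7],
    [0, 2, 3, 4, 5, 7, 10],
    [0, 2, 3, 4, 5, 7, 11],
    [0, 2, 3, 4, 5, 7, 10, 11],
    [0, 2, 3, 4, 6, 7, 9, 10, 11],
    [0, 2, 3, 4, 6, 7, 9, 11],
    [0, 2, 3, 4, 6, 7, 9, 10],
    [0, 2, 3, 4, 6, 7, 9],
    [1],
    [1, 10],
    [1, 11],
    [1, 10, 11],
    [1, 5, 6, 8, 10, 11],
    [1, 5, 6, 8, 11],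
    [1, 5, 6, 8, 10],
    [1, 5, 6, 8],
    [1, 4, 5, 7, 9],
    [1, 4, 5, 7, 9, 10],
    [1, 4, 5, 7, 9, 11],
    [1, 4, 5, 7, 9, 10, 11],
    [1, 4, 6, 7, 8, 9, 10, 11],
    [1, 4, 6, 7, 8, 9, 11],
    [1, 4, 6, 7, 8, 9, 10],
    [1, 4, 6, 7, 8, 9],
    [1, 8, 11],
    [1, 8, 10, 11],
    [1, 8],
    [1, 8, 10],
    [1, 5, 6, 10],
    [1, 5, 6],
    [1, 5, 6, 10, 11],
    [1, 5, 6, 11],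
    [1, 4, 5, 7, 8, 9, 11],
    [1, 4, 5, 7, 8, 9, 10, 11],
    [1, 4, 5, 7, 8, 9],
    [1, 4, 5, 7, 8, 9, 10],
    [1, 4, 6, 7, 9, 10],
    [1, 4, 6, 7, 9],
    [1, 4, 6, 7, 9, 10, 11],
    [1, 4, 6, 7, 9, 11],
    [1, 9, 10],
    [1, 9],
    [1, 9, 10, 11],
    [1, 9, 11],
    [1, 5, 6, 8, 9, 11],
    [1, 5, 6, 8, 9, 10, 11],
    [1, 5, 6, 8, 9],
    [1, 5, 6, 8, 9, 10],
    [1, 4, 5, 7, 10],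
    [1, 4, 5, 7],
    [1, 4, 5, 7, 10, 11],
    [1, 4, 5, 7, 11],
    [1, 4, 6, 7, 8, 11],
    [1, 4, 6, 7, 8, 10, 11],
    [1, 4, 6, 7, 8],
    [1, 4, 6, 7, 8, 10],
    [1, 8, 9, 10, 11],
    [1, 8, 9, 11],
    [1, 8, 9, 10],
    [1, 8, 9],
    [1, 5, 6, 9],
    [1, 5, 6, 9, 10],
    [1, 5, 6, 9, 11],
    [1, 5, 6, 9, 10, 11],
    [1, 4, 5, 7, 8, 10, 11],
    [1, 4, 5, 7, 8, 11],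
    [1, 4, 5, 7, 8, 10],
    [1, 4, 5, 7, 8],
    [1, 4, 6, 7],
    [1, 4, 6, 7, 10],
    [1, 4, 6, 7, 11],
    [1, 4, 6, 7, 10, 11],
    [1, 2, 4, 7, 8, 9, 10, 11],
    [1, 2, 4, 7, 8, 9, 11],
    [1, 2, 4, 7, 8, 9, 10],
    [1, 2, 4, 7, 8, 9],
    [1, 2, 4, 5, 6, 7, 9, 10, 11],
    [1, 2, 4, 5, 6, 7, 9, 11],
    [1, 2, 4, 5, 6, 7, 9, 10],
    [1, 2, 4, 5, 6, 7, 9],
    [1, 2, 5, 8],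
    [1, 2, 5, 8, 10],
    [1, 2, 5, 8, 11],
    [1, 2, 5, 8, 10, 11],
    [1, 2, 6],
    [1, 2, 6, 10],
    [1, 2, 6, 11],
    [1, 2, 6, 10, 11],
    [1, 2, 4, 7, 9, 10],
    [1, 2, 4, 7, 9],
    [1, 2, 4, 7, 9, 10, 11],
    [1, 2, 4, 7, 9, 11],
    [1, 2, 4, 5, 6, 7, 8, 9, 10],
    [1, 2, 4, 5, 6, 7, 8, 9],
    [1, 2, 4, 5, 6, 7, 8, 9, 10, 11],
    [1, 2, 4, 5, 6, 7, 8, 9, 11],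
    [1, 2, 5, 11],
    [1, 2, 5, 10, 11],
    [1, 2, 5],
    [1, 2, 5, 10],
    [1, 2, 6, 8, 11],
    [1, 2, 6, 8, 10, 11],
    [1, 2, 6, 8],
    [1, 2, 6, 8, 10],
    [1, 2, 4, 7, 8, 11],
    [1, 2, 4, 7, 8, 10, 11],
    [1, 2, 4, 7, 8],
    [1, 2, 4, 7, 8, 10],
    [1, 2, 4, 5, 6, 7, 11],
    [1, 2, 4, 5, 6, 7, 10, 11],
    [1, 2, 4, 5, 6, 7],
    [1, 2, 4, 5, 6, 7, 10],
    [1, 2, 5, 8, 9, 10],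
    [1, 2, 5, 8, 9],
    [1, 2, 5, 8, 9, 10, 11],
    [1, 2, 5, 8, 9, 11],
    [1, 2, 6, 9, 10],
    [1, 2, 6, 9],
    [1, 2, 6, 9, 10, 11],
    [1, 2, 6, 9, 11],
    [1, 2, 4, 7],
    [1, 2, 4, 7, 10],
    [1, 2, 4, 7, 11],
    [1, 2, 4, 7, 10, 11],
    [1, 2, 4, 5, 6, 7, 8],
    [1, 2, 4, 5, 6, 7, 8, 10],
    [1, 2, 4, 5, 6, 7, 8, 11],
    [1, 2, 4, 5, 6, 7, 8, 10, 11],
    [1, 2, 5, 9, 10, 11],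
    [1, 2, 5, 9, 11],
    [1, 2, 5, 9, 10],
    [1, 2, 5, 9],
    [1, 2, 6, 8, 9, 10, 11],
    [1, 2, 6, 8, 9, 11],
    [1, 2, 6, 8, 9, 10],
    [1, 2, 6, 8, 9],
    [1, 3, 5, 6, 7, 8],
    [1, 3, 5, 6, 7, 8, 10],
    [1, 3, 5, 6, 7, 8, 11],
    [1, 3, 5, 6, 7, 8, 10, 11],
    [1, 3, 7],
    [1, 3, 7, 10],
    [1, 3, 7, 11],
    [1, 3, 7, 10, 11],
    [1, 3, 4, 6, 8, 9, 11],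
    [1, 3, 4, 6, 8, 9, 10, 11],
    [1, 3, 4, 6, 8, 9],
    [1, 3, 4, 6, 8, 9, 10],
    [1, 3, 4, 5, 9, 11],
    [1, 3, 4, 5, 9, 10, 11],
    [1, 3, 4, 5, 9],
    [1, 3, 4, 5, 9, 10],
    [1, 3, 5, 6, 7, 11],
    [1, 3, 5, 6, 7, 10, 11],
    [1, 3, 5, 6, 7],
    [1, 3, 5, 6, 7, 10],
    [1, 3, 7, 8, 11],
    [1, 3, 7, 8, 10, 11],
    [1, 3, 7, 8],
    [1, 3, 7, 8, 10],
    [1, 3, 4, 6, 9],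
    [1, 3, 4, 6, 9, 10],
    [1, 3, 4, 6, 9, 11],
    [1, 3, 4, 6, 9, 10, 11],
    [1, 3, 4, 5, 8, 9],
    [1, 3, 4, 5, 8, 9, 10],
    [1, 3, 4, 5, 8, 9, 11],
    [1, 3, 4, 5, 8, 9, 10, 11],
    [1, 3, 5, 6, 7, 8, 9, 10],
    [1, 3, 5, 6, 7, 8, 9],
    [1, 3, 5, 6, 7, 8, 9, 10, 11],
    [1, 3, 5, 6, 7, 8, 9, 11],
    [1, 3, 7, 9, 10],
    [1, 3, 7, 9],
    [1, 3, 7, 9, 10, 11],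
    [1, 3, 7, 9, 11],
    [1, 3, 4, 6, 8, 10, 11],
    [1, 3, 4, 6, 8, 11],
    [1, 3, 4, 6, 8, 10],
    [1, 3, 4, 6, 8],
    [1, 3, 4, 5, 10, 11],
    [1, 3, 4, 5, 11],
    [1, 3, 4, 5, 10],
    [1, 3, 4, 5],
    [1, 3, 5, 6, 7, 9, 10, 11],
    [1, 3, 5, 6, 7, 9, 11],
    [1, 3, 5, 6, 7, 9, 10],
    [1, 3, 5, 6, 7, 9],
    [1, 3, 7, 8, 9, 10, 11],
    [1, 3, 7, 8, 9, 11],
    [1, 3, 7, 8, 9, 10],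
    [1, 3, 7, 8, 9],
    [1, 3, 4, 6, 10],
    [1, 3, 4, 6],
    [1, 3, 4, 6, 10, 11],
    [1, 3, 4, 6, 11],
    [1, 3, 4, 5, 8, 10],
    [1, 3, 4, 5, 8],
    [1, 3, 4, 5, 8, 10, 11],
    [1, 3, 4, 5, 8, 11],
    [1, 2, 3, 4, 5, 6, 9, 10, 11],
    [1, 2, 3, 4, 5, 6, 9, 11],
    [1, 2, 3, 4, 5, 6, 9, 10],
    [1, 2, 3, 4, 5, 6, 9],
    [1, 2, 3, 4, 8, 9],
    [1, 2, 3, 4, 8, 9, 10],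
    [1, 2, 3, 4, 8, 9, 11],
    [1, 2, 3, 4, 8, 9, 10, 11],
    [1, 2, 3, 6, 7, 11],
    [1, 2, 3, 6, 7, 10, 11],
    [1, 2, 3, 6, 7],
    [1, 2, 3, 6, 7, 10],
    [1, 2, 3, 5, 7, 8, 10],
    [1, 2, 3, 5, 7, 8],
    [1, 2, 3, 5, 7, 8, 10, 11],
    [1, 2, 3, 5, 7, 8, 11],
    [1, 2, 3, 4, 5, 6, 8, 9, 10],
    [1, 2, 3, 4, 5, 6, 8, 9],
    [1, 2, 3, 4, 5, 6, 8, 9, 10, 11],
    [1, 2, 3, 4, 5, 6, 8, 9, 11],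
    [1, 2, 3, 4, 9, 11],
    [1, 2, 3, 4, 9, 10, 11],
    [1, 2, 3, 4, 9],
    [1, 2, 3, 4, 9, 10],
    [1, 2, 3, 6, 7, 8],
    [1, 2, 3, 6, 7, 8, 10],
    [1, 2, 3, 6, 7, 8, 11],
    [1, 2, 3, 6, 7, 8, 10, 11],
    [1, 2, 3, 5, 7, 10, 11],
    [1, 2, 3, 5, 7, 11],
    [1, 2, 3, 5, 7, 10],
    [1, 2, 3, 5, 7],
    [1, 2, 3, 4, 5, 6, 11],
    [1, 2, 3, 4, 5, 6, 10, 11],
    [1, 2, 3, 4, 5, 6],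
    [1, 2, 3, 4, 5, 6, 10],
    [1, 2, 3, 4, 8, 10],
    [1, 2, 3, 4, 8],
    [1, 2, 3, 4, 8, 10, 11],
    [1, 2, 3, 4, 8, 11],
    [1, 2, 3, 6, 7, 9, 10, 11],
    [1, 2, 3, 6, 7, 9, 11],
    [1, 2, 3, 6, 7, 9, 10],
    [1, 2, 3, 6, 7, 9],
    [1, 2, 3, 5, 7, 8, 9],
    [1, 2, 3, 5, 7, 8, 9, 10],
    [1, 2, 3, 5, 7, 8, 9, 11],
    [1, 2, 3, 5, 7, 8, 9, 10, 11],
    [1, 2, 3, 4, 5, 6, 8],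
    [1, 2, 3, 4, 5, 6, 8, 10],
    [1, 2, 3, 4, 5, 6, 8, 11],
    [1, 2, 3, 4, 5, 6, 8, 10, 11],
    [1, 2, 3, 4, 10, 11],
    [1, 2, 3, 4, 11],
    [1, 2, 3, 4, 10],
    [1, 2, 3, 4],
    [1, 2, 3, 6, 7, 8, 9, 10],
    [1, 2, 3, 6, 7, 8, 9],
    [1, 2, 3, 6, 7, 8, 9, 10, 11],
    [1, 2, 3, 6, 7, 8, 9, 11],
    [1, 2, 3, 5, 7, 9, 11],
    [1, 2, 3, 5, 7, 9, 10, 11],
    [1, 2, 3, 5, 7, 9],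
    [1, 2, 3, 5, 7, 9, 10],
    [1, 4, 5, 6, 9, 10, 11],
    [1, 4, 5, 6, 9, 11],
    [1, 4, 5, 6, 9, 10],
    [1, 4, 5, 6, 9],
    [1, 4, 8, 9, 10],
    [1, 4, 8, 9],
    [1, 4, 8, 9, 10, 11],
    [1, 4, 8, 9, 11],
    [1, 6, 7],
    [1, 6, 7, 10],
    [1, 6, 7, 11],
    [1, 6, 7, 10, 11],
    [1, 5, 7, 8, 11],
    [1, 5, 7, 8, 10, 11],
    [1, 5, 7, 8],
    [1, 5, 7, 8, 10],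
    [1, 4, 5, 6, 8, 9, 10],
    [1, 4, 5, 6, 8, 9],
    [1, 4, 5, 6, 8, 9, 10, 11],
    [1, 4, 5, 6, 8, 9, 11],
    [1, 4, 9, 10, 11],
    [1, 4, 9, 11],
    [1, 4, 9, 10],
    [1, 4, 9],
    [1, 6, 7, 8, 11],
    [1, 6, 7, 8, 10, 11],
    [1, 6, 7, 8],
    [1, 6, 7, 8, 10],
    [1, 5, 7],
    [1, 5, 7, 10],
    [1, 5, 7, 11],
    [1, 5, 7, 10, 11],
    [1, 4, 5, 6, 11],
    [1, 4, 5, 6, 10, 11],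
    [1, 4, 5, 6],
    [1, 4, 5, 6, 10],
    [1, 4, 8],
    [1, 4, 8, 10],
    [1, 4, 8, 11],
    [1, 4, 8, 10, 11],
    [1, 6, 7, 9, 10],
    [1, 6, 7, 9],
    [1, 6, 7, 9, 10, 11],
    [1, 6, 7, 9, 11],
    [1, 5, 7, 8, 9, 10, 11],
    [1, 5, 7, 8, 9, 11],
    [1, 5, 7, 8, 9, 10],
    [1, 5, 7, 8, 9],
    [1, 4, 5, 6, 8],
    [1, 4, 5, 6, 8, 10],
    [1, 4, 5, 6, 8, 11],
    [1, 4, 5, 6, 8, 10, 11],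
    [1, 4, 11],
    [1, 4, 10, 11],
    [1, 4],
    [1, 4, 10],
    [1, 6, 7, 8, 9, 10, 11],
    [1, 6, 7, 8, 9, 11],
    [1, 6, 7, 8, 9, 10],
    [1, 6, 7, 8, 9],
    [1, 5, 7, 9, 10],
    [1, 5, 7, 9],
    [1, 5, 7, 9, 10, 11],
    [1, 5, 7, 9, 11],
    [1, 2, 5, 6, 7, 8],
    [1, 2, 5, 6, 7, 8, 10],
    [1, 2, 5, 6, 7, 8, 11],
    [1, 2, 5, 6, 7, 8, 10, 11],
    [1, 2, 7, 10],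
    [1, 2, 7],
    [1, 2, 7, 10, 11],
    [1, 2, 7, 11],
    [1, 2, 4, 6, 8, 9],
    [1, 2, 4, 6, 8, 9, 10],
    [1, 2, 4, 6, 8, 9, 11],
    [1, 2, 4, 6, 8, 9, 10, 11],
    [1, 2, 4, 5, 9, 10],
    [1, 2, 4, 5, 9],
    [1, 2, 4, 5, 9, 10, 11],
    [1, 2, 4, 5, 9, 11],
    [1, 2, 5, 6, 7, 11],
    [1, 2, 5, 6, 7, 10, 11],
    [1, 2, 5, 6, 7],
    [1, 2, 5, 6, 7, 10],
    [1, 2, 7, 8, 10, 11],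
    [1, 2, 7, 8, 11],
    [1, 2, 7, 8, 10],
    [1, 2, 7, 8],
    [1, 2, 4, 6, 9, 11],
    [1, 2, 4, 6, 9, 10, 11],
    [1, 2, 4, 6, 9],
    [1, 2, 4, 6, 9, 10],
    [1, 2, 4, 5, 8, 9, 10, 11],
    [1, 2, 4, 5, 8, 9, 11],
    [1, 2, 4, 5, 8, 9, 10],
    [1, 2, 4, 5, 8, 9],
    [1, 2, 5, 6, 7, 8, 9, 10],
    [1, 2, 5, 6, 7, 8, 9],
    [1, 2, 5, 6, 7, 8, 9, 10, 11],
    [1, 2, 5, 6, 7, 8, 9, 11],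
    [1, 2, 7, 9],
    [1, 2, 7, 9, 10],
    [1, 2, 7, 9, 11],
    [1, 2, 7, 9, 10, 11],
    [1, 2, 4, 6, 8, 10],
    [1, 2, 4, 6, 8],
    [1, 2, 4, 6, 8, 10, 11],
    [1, 2, 4, 6, 8, 11],
    [1, 2, 4, 5],
    [1, 2, 4, 5, 10],
    [1, 2, 4, 5, 11],
    [1, 2, 4, 5, 10, 11],
    [1, 2, 5, 6, 7, 9, 10, 11],
    [1, 2, 5, 6, 7, 9, 11],
    [1, 2, 5, 6, 7, 9, 10],
    [1, 2, 5, 6, 7, 9],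
    [1, 2, 7, 8, 9, 11],
    [1, 2, 7, 8, 9, 10, 11],
    [1, 2, 7, 8, 9],
    [1, 2, 7, 8, 9, 10],
    [1, 2, 4, 6, 10, 11],
    [1, 2, 4, 6, 11],
    [1, 2, 4, 6, 10],
    [1, 2, 4, 6],
    [1, 2, 4, 5, 8, 11],
    [1, 2, 4, 5, 8, 10, 11],
    [1, 2, 4, 5, 8],
    [1, 2, 4, 5, 8, 10],
    [1, 3, 4, 7, 8, 9, 10, 11],
    [1, 3, 4, 7, 8, 9, 11],
    [1, 3, 4, 7, 8, 9, 10],
    [1, 3, 4, 7, 8, 9],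
    [1, 3, 4, 5, 6, 7, 9, 11],
    [1, 3, 4, 5, 6, 7, 9, 10, 11],
    [1, 3, 4, 5, 6, 7, 9],
    [1, 3, 4, 5, 6, 7, 9, 10],
    [1, 3, 5, 8, 11],
    [1, 3, 5, 8, 10, 11],
    [1, 3, 5, 8],
    [1, 3, 5, 8, 10],
    [1, 3, 6, 10, 11],
    [1, 3, 6, 11],
    [1, 3, 6, 10],
    [1, 3, 6],
    [1, 3, 4, 7, 9, 10],
    [1, 3, 4, 7, 9],
    [1, 3, 4, 7, 9, 10, 11],
    [1, 3, 4, 7, 9, 11],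
    [1, 3, 4, 5, 6, 7, 8, 9],
    [1, 3, 4, 5, 6, 7, 8, 9, 10],
    [1, 3, 4, 5, 6, 7, 8, 9, 11],
    [1, 3, 4, 5, 6, 7, 8, 9, 10, 11],
    [1, 3, 5],
    [1, 3, 5, 10],
    [1, 3, 5, 11],
    [1, 3, 5, 10, 11],
    [1, 3, 6, 8, 10],
    [1, 3, 6, 8],
    [1, 3, 6, 8, 10, 11],
    [1, 3, 6, 8, 11],
    [1, 3, 4, 7, 8, 11],
    [1, 3, 4, 7, 8, 10, 11],
    [1, 3, 4, 7, 8],
    [1, 3, 4, 7, 8, 10],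
    [1, 3, 4, 5, 6, 7, 10, 11],
    [1, 3, 4, 5, 6, 7, 11],
    [1, 3, 4, 5, 6, 7, 10],
    [1, 3, 4, 5, 6, 7],
    [1, 3, 5, 8, 9, 10, 11],
    [1, 3, 5, 8, 9, 11],
    [1, 3, 5, 8, 9, 10],
    [1, 3, 5, 8, 9],
    [1, 3, 6, 9, 11],
    [1, 3, 6, 9, 10, 11],
    [1, 3, 6, 9],
    [1, 3, 6, 9, 10],
    [1, 3, 4, 7],
    [1, 3, 4, 7, 10],
    [1, 3, 4, 7, 11],
    [1, 3, 4, 7, 10, 11],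
    [1, 3, 4, 5, 6, 7, 8, 10],
    [1, 3, 4, 5, 6, 7, 8],
    [1, 3, 4, 5, 6, 7, 8, 10, 11],
    [1, 3, 4, 5, 6, 7, 8, 11],
    [1, 3, 5, 9, 10],
    [1, 3, 5, 9],
    [1, 3, 5, 9, 10, 11],
    [1, 3, 5, 9, 11],
    [1, 3, 6, 8, 9],
    [1, 3, 6, 8, 9, 10],
    [1, 3, 6, 8, 9, 11],
    [1, 3, 6, 8, 9, 10, 11],
    [1, 2, 3],
    [1, 2, 3, 10],
    [1, 2, 3, 11],
    [1, 2, 3, 10, 11],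
    [1, 2, 3, 5, 6, 8, 11],
    [1, 2, 3, 5, 6, 8, 10, 11],
    [1, 2, 3, 5, 6, 8],
    [1, 2, 3, 5, 6, 8, 10],
    [1, 2, 3, 4, 5, 7, 9, 11],
    [1, 2, 3, 4, 5, 7, 9, 10, 11],
    [1, 2, 3, 4, 5, 7, 9],
    [1, 2, 3, 4, 5, 7, 9, 10],
    [1, 2, 3, 4, 6, 7, 8, 9],
    [1, 2, 3, 4, 6, 7, 8, 9, 10],
    [1, 2, 3, 4, 6, 7, 8, 9, 11],
    [1, 2, 3, 4, 6, 7, 8, 9, 10, 11],
    [1, 2, 3, 8, 11],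
    [1, 2, 3, 8, 10, 11],
    [1, 2, 3, 8],
    [1, 2, 3, 8, 10],
    [1, 2, 3, 5, 6],
    [1, 2, 3, 5, 6, 10],
    [1, 2, 3, 5, 6, 11],
    [1, 2, 3, 5, 6, 10, 11],
    [1, 2, 3, 4, 5, 7, 8, 9],
    [1, 2, 3, 4, 5, 7, 8, 9, 10],
    [1, 2, 3, 4, 5, 7, 8, 9, 11],
    [1, 2, 3, 4, 5, 7, 8, 9, 10, 11],
    [1, 2, 3, 4, 6, 7, 9, 11],
    [1, 2, 3, 4, 6, 7, 9, 10, 11],
    [1, 2, 3, 4, 6, 7, 9],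
    [1, 2, 3, 4, 6, 7, 9, 10],
    [1, 2, 3, 9, 10],
    [1, 2, 3, 9],
    [1, 2, 3, 9, 10, 11],
    [1, 2, 3, 9, 11],
    [1, 2, 3, 5, 6, 8, 9, 10, 11],
    [1, 2, 3, 5, 6, 8, 9, 11],
    [1, 2, 3, 5, 6, 8, 9, 10],
    [1, 2, 3, 5, 6, 8, 9],
    [1, 2, 3, 4, 5, 7, 10, 11],
    [1, 2, 3, 4, 5, 7, 11],
    [1, 2, 3, 4, 5, 7, 10],
    [1, 2, 3, 4, 5, 7],
    [1, 2, 3, 4, 6, 7, 8, 10],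
    [1, 2, 3, 4, 6, 7, 8],
    [1, 2, 3, 4, 6, 7, 8, 10, 11],
    [1, 2, 3, 4, 6, 7, 8, 11],
    [1, 2, 3, 8, 9, 10, 11],
    [1, 2, 3, 8, 9, 11],
    [1, 2, 3, 8, 9, 10],
    [1, 2, 3, 8, 9],
    [1, 2, 3, 5, 6, 9, 10],
    [1, 2, 3, 5, 6, 9],
    [1, 2, 3, 5, 6, 9, 10, 11],
    [1, 2, 3, 5, 6, 9, 11],
    [1, 2, 3, 4, 5, 7, 8, 10],
    [1, 2, 3, 4, 5, 7, 8],
    [1, 2, 3, 4, 5, 7, 8, 10, 11],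
    [1, 2, 3, 4, 5, 7, 8, 11],
    [1, 2, 3, 4, 6, 7, 10, 11],
    [1, 2, 3, 4, 6, 7, 11],
    [1, 2, 3, 4, 6, 7, 10],
    [1, 2, 3, 4, 6, 7],
    [1, 4, 7, 8, 9, 10, 11],
    [1, 4, 7, 8, 9, 11],
    [1, 4, 7, 8, 9, 10],
    [1, 4, 7, 8, 9],
    [1, 4, 5, 6, 7, 9, 10],
    [1, 4, 5, 6, 7, 9],
    [1, 4, 5, 6, 7, 9, 10, 11],
    [1, 4, 5, 6, 7, 9, 11],
    [1, 5, 8, 10, 11],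
    [1, 5, 8, 11],
    [1, 5, 8, 10],
    [1, 5, 8],
    [1, 6, 10],
    [1, 6],
    [1, 6, 10, 11],
    [1, 6, 11],
    [1, 4, 7, 9, 10],
    [1, 4, 7, 9],
    [1, 4, 7, 9, 10, 11],
    [1, 4, 7, 9, 11],
    [1, 4, 5, 6, 7, 8, 9, 10, 11],
    [1, 4, 5, 6, 7, 8, 9, 11],
    [1, 4, 5, 6, 7, 8, 9, 10],
    [1, 4, 5, 6, 7, 8, 9],
    [1, 5, 10],
    [1, 5],
    [1, 5, 10, 11],
    [1, 5, 11],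
    [1, 6, 8, 10, 11],
    [1, 6, 8, 11],
    [1, 6, 8, 10],
    [1, 6, 8],
    [1, 4, 7, 8, 11],
    [1, 4, 7, 8, 10, 11],
    [1, 4, 7, 8],
    [1, 4, 7, 8, 10],
    [1, 4, 5, 6, 7],
    [1, 4, 5, 6, 7, 10],
    [1, 4, 5, 6, 7, 11],
    [1, 4, 5, 6, 7, 10, 11],
    [1, 5, 8, 9, 11],
    [1, 5, 8, 9, 10, 11],
    [1, 5, 8, 9],
    [1, 5, 8, 9, 10],
    [1, 6, 9],
    [1, 6, 9, 10],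
    [1, 6, 9, 11],
    [1, 6, 9, 10, 11],
    [1, 4, 7],
    [1, 4, 7, 10],
    [1, 4, 7, 11],
    [1, 4, 7, 10, 11],
    [1, 4, 5, 6, 7, 8, 11],
    [1, 4, 5, 6, 7, 8, 10, 11],
    [1, 4, 5, 6, 7, 8],
    [1, 4, 5, 6, 7, 8, 10],
    [1, 5, 9],
    [1, 5, 9, 10],
    [1, 5, 9, 11],
    [1, 5, 9, 10, 11],
    [1, 6, 8, 9, 11],
    [1, 6, 8, 9, 10, 11],
    [1, 6, 8, 9],
    [1, 6, 8, 9, 10],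
    [1, 2],
    [1, 2, 10],
    [1, 2, 11],
    [1, 2, 10, 11],
    [1, 2, 5, 6, 8, 10],
    [1, 2, 5, 6, 8],
    [1, 2, 5, 6, 8, 10, 11],
    [1, 2, 5, 6, 8, 11],
    [1, 2, 4, 5, 7, 9, 10, 11],
    [1, 2, 4, 5, 7, 9, 11],
    [1, 2, 4, 5, 7, 9, 10],
    [1, 2, 4, 5, 7, 9],
    [1, 2, 4, 6, 7, 8, 9, 11],
    [1, 2, 4, 6, 7, 8, 9, 10, 11],
    [1, 2, 4, 6, 7, 8, 9],
    [1, 2, 4, 6, 7, 8, 9, 10],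
    [1, 2, 8, 11],
    [1, 2, 8, 10, 11],
    [1, 2, 8],
    [1, 2, 8, 10],
    [1, 2, 5, 6, 10, 11],
    [1, 2, 5, 6, 11],
    [1, 2, 5, 6, 10],
    [1, 2, 5, 6],
    [1, 2, 4, 5, 7, 8, 9, 10],
    [1, 2, 4, 5, 7, 8, 9],
    [1, 2, 4, 5, 7, 8, 9, 10, 11],
    [1, 2, 4, 5, 7, 8, 9, 11],
    [1, 2, 4, 6, 7, 9],
    [1, 2, 4, 6, 7, 9, 10],
    [1, 2, 4, 6, 7, 9, 11],
    [1, 2, 4, 6, 7, 9, 10, 11],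
    [1, 2, 9, 10],
    [1, 2, 9],
    [1, 2, 9, 10, 11],
    [1, 2, 9, 11],
    [1, 2, 5, 6, 8, 9],
    [1, 2, 5, 6, 8, 9, 10],
    [1, 2, 5, 6, 8, 9, 11],
    [1, 2, 5, 6, 8, 9, 10, 11],
    [1, 2, 4, 5, 7, 11],
    [1, 2, 4, 5, 7, 10, 11],
    [1, 2, 4, 5, 7],
    [1, 2, 4, 5, 7, 10],
    [1, 2, 4, 6, 7, 8, 10, 11],
    [1, 2, 4, 6, 7, 8, 11],
    [1, 2, 4, 6, 7, 8, 10],
    [1, 2, 4, 6, 7, 8],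
    [1, 2, 8, 9, 10, 11],
    [1, 2, 8, 9, 11],
    [1, 2, 8, 9, 10],
    [1, 2, 8, 9],
    [1, 2, 5, 6, 9, 11],
    [1, 2, 5, 6, 9, 10, 11],
    [1, 2, 5, 6, 9],
    [1, 2, 5, 6, 9, 10],
    [1, 2, 4, 5, 7, 8],
    [1, 2, 4, 5, 7, 8, 10],
    [1, 2, 4, 5, 7, 8, 11],
    [1, 2, 4, 5, 7, 8, 10, 11],
    [1, 2, 4, 6, 7, 10],
    [1, 2, 4, 6, 7],
    [1, 2, 4, 6, 7, 10, 11],
    [1, 2, 4, 6, 7, 11],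
    [1, 3, 4, 5, 6, 9, 10, 11],
    [1, 3, 4, 5, 6, 9, 11],
    [1, 3, 4, 5, 6, 9, 10],
    [1, 3, 4, 5, 6, 9],
    [1, 3, 4, 8, 9, 11],
    [1, 3, 4, 8, 9, 10, 11],
    [1, 3, 4, 8, 9],
    [1, 3, 4, 8, 9, 10],
    [1, 3, 6, 7, 10],
    [1, 3, 6, 7],
    [1, 3, 6, 7, 10, 11],
    [1, 3, 6, 7, 11],
    [1, 3, 5, 7, 8],
    [1, 3, 5, 7, 8, 10],
    [1, 3, 5, 7, 8, 11],
    [1, 3, 5, 7, 8, 10, 11],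
    [1, 3, 4, 5, 6, 8, 9, 10],
    [1, 3, 4, 5, 6, 8, 9],
    [1, 3, 4, 5, 6, 8, 9, 10, 11],
    [1, 3, 4, 5, 6, 8, 9, 11],
    [1, 3, 4, 9],
    [1, 3, 4, 9, 10],
    [1, 3, 4, 9, 11],
    [1, 3, 4, 9, 10, 11],
    [1, 3, 6, 7, 8, 10, 11],
    [1, 3, 6, 7, 8, 11],
    [1, 3, 6, 7, 8, 10],
    [1, 3, 6, 7, 8],
    [1, 3, 5, 7, 11],
    [1, 3, 5, 7, 10, 11],
    [1, 3, 5, 7],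
    [1, 3, 5, 7, 10],
    [1, 3, 4, 5, 6, 11],
    [1, 3, 4, 5, 6, 10, 11],
    [1, 3, 4, 5, 6],
    [1, 3, 4, 5, 6, 10],
    [1, 3, 4, 8, 10, 11],
    [1, 3, 4, 8, 11],
    [1, 3, 4, 8, 10],
    [1, 3, 4, 8],
    [1, 3, 6, 7, 9],
    [1, 3, 6, 7, 9, 10],
    [1, 3, 6, 7, 9, 11],
    [1, 3, 6, 7, 9, 10, 11],
    [1, 3, 5, 7, 8, 9, 10],
    [1, 3, 5, 7, 8, 9],
    [1, 3, 5, 7, 8, 9, 10, 11],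
    [1, 3, 5, 7, 8, 9, 11],
    [1, 3, 4, 5, 6, 8],
    [1, 3, 4, 5, 6, 8, 10],
    [1, 3, 4, 5, 6, 8, 11],
    [1, 3, 4, 5, 6, 8, 10, 11],
    [1, 3, 4, 10],
    [1, 3, 4],
    [1, 3, 4, 10, 11],
    [1, 3, 4, 11],
    [1, 3, 6, 7, 8, 9, 11],
    [1, 3, 6, 7, 8, 9, 10, 11],
    [1, 3, 6, 7, 8, 9],
    [1, 3, 6, 7, 8, 9, 10],
    [1, 3, 5, 7, 9, 10, 11],
    [1, 3, 5, 7, 9, 11],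
    [1, 3, 5, 7, 9, 10],
    [1, 3, 5, 7, 9],
    [1, 2, 3, 5, 6, 7, 8],
    [1, 2, 3, 5, 6, 7, 8, 10],
    [1, 2, 3, 5, 6, 7, 8, 11],
    [1, 2, 3, 5, 6, 7, 8, 10, 11],
    [1, 2, 3, 7, 11],
    [1, 2, 3, 7, 10, 11],
    [1, 2, 3, 7],
    [1, 2, 3, 7, 10],
    [1, 2, 3, 4, 6, 8, 9, 10],
    [1, 2, 3, 4, 6, 8, 9],
    [1, 2, 3, 4, 6, 8, 9, 10, 11],
    [1, 2, 3, 4, 6, 8, 9, 11],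
    [1, 2, 3, 4, 5, 9, 10, 11],
    [1, 2, 3, 4, 5, 9, 11],
    [1, 2, 3, 4, 5, 9, 10],
    [1, 2, 3, 4, 5, 9],
    [1, 2, 3, 5, 6, 7, 11],
    [1, 2, 3, 5, 6, 7, 10, 11],
    [1, 2, 3, 5, 6, 7],
    [1, 2, 3, 5, 6, 7, 10],
    [1, 2, 3, 7, 8],
    [1, 2, 3, 7, 8, 10],
    [1, 2, 3, 7, 8, 11],
    [1, 2, 3, 7, 8, 10, 11],
    [1, 2, 3, 4, 6, 9, 10, 11],
    [1, 2, 3, 4, 6, 9, 11],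
    [1, 2, 3, 4, 6, 9, 10],
    [1, 2, 3, 4, 6, 9],
    [1, 2, 3, 4, 5, 8, 9, 10],
    [1, 2, 3, 4, 5, 8, 9],
    [1, 2, 3, 4, 5, 8, 9, 10, 11],
    [1, 2, 3, 4, 5, 8, 9, 11],
    [1, 2, 3, 5, 6, 7, 8, 9, 10],
    [1, 2, 3, 5, 6, 7, 8, 9],
    [1, 2, 3, 5, 6, 7, 8, 9, 10, 11],
    [1, 2, 3, 5, 6, 7, 8, 9, 11],
    [1, 2, 3, 7, 9, 10, 11],
    [1, 2, 3, 7, 9, 11],
    [1, 2, 3, 7, 9, 10],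
    [1, 2, 3, 7, 9],
    [1, 2, 3, 4, 6, 8],
    [1, 2, 3, 4, 6, 8, 10],
    [1, 2, 3, 4, 6, 8, 11],
    [1, 2, 3, 4, 6, 8, 10, 11],
    [1, 2, 3, 4, 5, 11],
    [1, 2, 3, 4, 5, 10, 11],
    [1, 2, 3, 4, 5],
    [1, 2, 3, 4, 5, 10],
    [1, 2, 3, 5, 6, 7, 9, 10, 11],
    [1, 2, 3, 5, 6, 7, 9, 11],
    [1, 2, 3, 5, 6, 7, 9, 10],
    [1, 2, 3, 5, 6, 7, 9],
    [1, 2, 3, 7, 8, 9, 10],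
    [1, 2, 3, 7, 8, 9],
    [1, 2, 3, 7, 8, 9, 10, 11],
    [1, 2, 3, 7, 8, 9, 11],
    [1, 2, 3, 4, 6, 11],
    [1, 2, 3, 4, 6, 10, 11],
    [1, 2, 3, 4, 6],
    [1, 2, 3, 4, 6, 10],
    [1, 2, 3, 4, 5, 8],
    [1, 2, 3, 4, 5, 8, 10],
    [1, 2, 3, 4, 5, 8, 11],
    [1, 2, 3, 4, 5, 8, 10, 11],
    [1, 5, 6, 7, 8],
    [1, 5, 6, 7, 8, 10],
    [1, 5, 6, 7, 8, 11],
    [1, 5, 6, 7, 8, 10, 11],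
    [1, 7, 10, 11],
    [1, 7, 11],
    [1, 7, 10],
    [1, 7],
    [1, 4, 6, 8, 9, 10, 11],
    [1, 4, 6, 8, 9, 11],
    [1, 4, 6, 8, 9, 10],
    [1, 4, 6, 8, 9],
    [1, 4, 5, 9],
    [1, 4, 5, 9, 10],
    [1, 4, 5, 9, 11],
    [1, 4, 5, 9, 10, 11],
    [1, 5, 6, 7, 11],
    [1, 5, 6, 7, 10, 11],
    [1, 5, 6, 7],
    [1, 5, 6, 7, 10],
    [1, 7, 8, 10],
    [1, 7, 8],
    [1, 7, 8, 10, 11],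
    [1, 7, 8, 11],
    [1, 4, 6, 9, 10],
    [1, 4, 6, 9],
    [1, 4, 6, 9, 10, 11],
    [1, 4, 6, 9, 11],
    [1, 4, 5, 8, 9, 11],
    [1, 4, 5, 8, 9, 10, 11],
    [1, 4, 5, 8, 9],
    [1, 4, 5, 8, 9, 10],
    [1, 5, 6, 7, 8, 9, 10],
    [1, 5, 6, 7, 8, 9],
    [1, 5, 6, 7, 8, 9, 10, 11],
    [1, 5, 6, 7, 8, 9, 11],
    [1, 7, 9, 11],
    [1, 7, 9, 10, 11],
    [1, 7, 9],
    [1, 7, 9, 10],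
    [1, 4, 6, 8, 11],
    [1, 4, 6, 8, 10, 11],
    [1, 4, 6, 8],
    [1, 4, 6, 8, 10],
    [1, 4, 5, 10],
    [1, 4, 5],
    [1, 4, 5, 10, 11],
    [1, 4, 5, 11],
    [1, 5, 6, 7, 9, 10, 11],
    [1, 5, 6, 7, 9, 11],
    [1, 5, 6, 7, 9, 10],
    [1, 5, 6, 7, 9],
    [1, 7, 8, 9],
    [1, 7, 8, 9, 10],
    [1, 7, 8, 9, 11],
    [1, 7, 8, 9, 10, 11],
    [1, 4, 6],
    [1, 4, 6, 10],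
    [1, 4, 6, 11],
    [1, 4, 6, 10, 11],
    [1, 4, 5, 8, 10, 11],
    [1, 4, 5, 8, 11],
    [1, 4, 5, 8, 10],
    [1, 4, 5, 8],
    [1, 2, 4, 5, 6, 9, 10, 11],
    [1, 2, 4, 5, 6, 9, 11],
    [1, 2, 4, 5, 6, 9, 10],
    [1, 2, 4, 5, 6, 9],
    [1, 2, 4, 8, 9, 10, 11],
    [1, 2, 4, 8, 9, 11],
    [1, 2, 4, 8, 9, 10],
    [1, 2, 4, 8, 9],
    [1, 2, 6, 7, 10, 11],
    [1, 2, 6, 7, 11],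
    [1, 2, 6, 7, 10],
    [1, 2, 6, 7],
    [1, 2, 5, 7, 8, 10, 11],
    [1, 2, 5, 7, 8, 11],
    [1, 2, 5, 7, 8, 10],
    [1, 2, 5, 7, 8],
    [1, 2, 4, 5, 6, 8, 9, 10],
    [1, 2, 4, 5, 6, 8, 9],
    [1, 2, 4, 5, 6, 8, 9, 10, 11],
    [1, 2, 4, 5, 6, 8, 9, 11],
    [1, 2, 4, 9, 10],
    [1, 2, 4, 9],
    [1, 2, 4, 9, 10, 11],
    [1, 2, 4, 9, 11],
    [1, 2, 6, 7, 8, 10],
    [1, 2, 6, 7, 8],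
    [1, 2, 6, 7, 8, 10, 11],
    [1, 2, 6, 7, 8, 11],
    [1, 2, 5, 7, 10],
    [1, 2, 5, 7],
    [1, 2, 5, 7, 10, 11],
    [1, 2, 5, 7, 11],
    [1, 2, 4, 5, 6, 11],
    [1, 2, 4, 5, 6, 10, 11],
    [1, 2, 4, 5, 6],
    [1, 2, 4, 5, 6, 10],
    [1, 2, 4, 8, 11],
    [1, 2, 4, 8, 10, 11],
    [1, 2, 4, 8],
    [1, 2, 4, 8, 10],
    [1, 2, 6, 7, 9, 11],
    [1, 2, 6, 7, 9, 10, 11],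
    [1, 2, 6, 7, 9],
    [1, 2, 6, 7, 9, 10],
    [1, 2, 5, 7, 8, 9, 11],
    [1, 2, 5, 7, 8, 9, 10, 11],
    [1, 2, 5, 7, 8, 9],
    [1, 2, 5, 7, 8, 9, 10],
    [1, 2, 4, 5, 6, 8],
    [1, 2, 4, 5, 6, 8, 10],
    [1, 2, 4, 5, 6, 8, 11],
    [1, 2, 4, 5, 6, 8, 10, 11],
    [1, 2, 4],
    [1, 2, 4, 10],
    [1, 2, 4, 11],
    [1, 2, 4, 10, 11],
    [1, 2, 6, 7, 8, 9],
    [1, 2, 6, 7, 8, 9, 10],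
    [1, 2, 6, 7, 8, 9, 11],
    [1, 2, 6, 7, 8, 9, 10, 11],
    [1, 2, 5, 7, 9],
    [1, 2, 5, 7, 9, 10],
    [1, 2, 5, 7, 9, 11],
    [1, 2, 5, 7, 9, 10, 11],
    [1, 3],
    [1, 3, 10],
    [1, 3, 11],
    [1, 3, 10, 11],
    [1, 3, 5, 6, 8],
    [1, 3, 5, 6, 8, 10],
    [1, 3, 5, 6, 8, 11],
    [1, 3, 5, 6, 8, 10, 11],
    [1, 3, 4, 5, 7, 9, 10],
    [1, 3, 4, 5, 7, 9],
    [1, 3, 4, 5, 7, 9, 10, 11],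
    [1, 3, 4, 5, 7, 9, 11],
    [1, 3, 4, 6, 7, 8, 9, 10],
    [1, 3, 4, 6, 7, 8, 9],
    [1, 3, 4, 6, 7, 8, 9, 10, 11],
    [1, 3, 4, 6, 7, 8, 9, 11],
    [1, 3, 8, 11],
    [1, 3, 8, 10, 11],
    [1, 3, 8],
    [1, 3, 8, 10],
    [1, 3, 5, 6, 11],
    [1, 3, 5, 6, 10, 11],
    [1, 3, 5, 6],
    [1, 3, 5, 6, 10],
    [1, 3, 4, 5, 7, 8, 9, 10, 11],
    [1, 3, 4, 5, 7, 8, 9, 11],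
    [1, 3, 4, 5, 7, 8, 9, 10],
    [1, 3, 4, 5, 7, 8, 9],
    [1, 3, 4, 6, 7, 9, 10, 11],
    [1, 3, 4, 6, 7, 9, 11],
    [1, 3, 4, 6, 7, 9, 10],
    [1, 3, 4, 6, 7, 9],
    [1, 3, 9, 10],
    [1, 3, 9],
    [1, 3, 9, 10, 11],
    [1, 3, 9, 11],
    [1, 3, 5, 6, 8, 9, 10],
    [1, 3, 5, 6, 8, 9],
    [1, 3, 5, 6, 8, 9, 10, 11],
    [1, 3, 5, 6, 8, 9, 11],
    [1, 3, 4, 5, 7],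
    [1, 3, 4, 5, 7, 10],
    [1, 3, 4, 5, 7, 11],
    [1, 3, 4, 5, 7, 10, 11],
    [1, 3, 4, 6, 7, 8],
    [1, 3, 4, 6, 7, 8, 10],
    [1, 3, 4, 6, 7, 8, 11],
    [1, 3, 4, 6, 7, 8, 10, 11],
    [1, 3, 8, 9, 10, 11],
    [1, 3, 8, 9, 11],
    [1, 3, 8, 9, 10],
    [1, 3, 8, 9],
    [1, 3, 5, 6, 9, 10, 11],
    [1, 3, 5, 6, 9, 11],
    [1, 3, 5, 6, 9, 10],
    [1, 3, 5, 6, 9],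
    [1, 3, 4, 5, 7, 8, 11],
    [1, 3, 4, 5, 7, 8, 10, 11],
    [1, 3, 4, 5, 7, 8],
    [1, 3, 4, 5, 7, 8, 10],
    [1, 3, 4, 6, 7, 11],
    [1, 3, 4, 6, 7, 10, 11],
    [1, 3, 4, 6, 7],
    [1, 3, 4, 6, 7, 10],
    [1, 2, 3, 4, 7, 8, 9, 10, 11],
    [1, 2, 3, 4, 7, 8, 9, 11],
    [1, 2, 3, 4, 7, 8, 9, 10],
    [1, 2, 3, 4, 7, 8, 9],
    [1, 2, 3, 4, 5, 6, 7, 9],
    [1, 2, 3, 4, 5, 6, 7, 9, 10],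
    [1, 2, 3, 4, 5, 6, 7, 9, 11],
    [1, 2, 3, 4, 5, 6, 7, 9, 10, 11],
    [1, 2, 3, 5, 8, 10],
    [1, 2, 3, 5, 8],
    [1, 2, 3, 5, 8, 10, 11],
    [1, 2, 3, 5, 8, 11],
    [1, 2, 3, 6, 11],
    [1, 2, 3, 6, 10, 11],
    [1, 2, 3, 6],
    [1, 2, 3, 6, 10],
    [1, 2, 3, 4, 7, 9, 10],
    [1, 2, 3, 4, 7, 9],
    [1, 2, 3, 4, 7, 9, 10, 11],
    [1, 2, 3, 4, 7, 9, 11],
    [1, 2, 3, 4, 5, 6, 7, 8, 9, 11],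
    [1, 2, 3, 4, 5, 6, 7, 8, 9, 10, 11],
    [1, 2, 3, 4, 5, 6, 7, 8, 9],
    [1, 2, 3, 4, 5, 6, 7, 8, 9, 10],
    [1, 2, 3, 5, 10, 11],
    [1, 2, 3, 5, 11],
    [1, 2, 3, 5, 10],
    [1, 2, 3, 5],
    [1, 2, 3, 6, 8],
    [1, 2, 3, 6, 8, 10],
    [1, 2, 3, 6, 8, 11],
    [1, 2, 3, 6, 8, 10, 11],
    [1, 2, 3, 4, 7, 8, 11],
    [1, 2, 3, 4, 7, 8, 10, 11],
    [1, 2, 3, 4, 7, 8],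
    [1, 2, 3, 4, 7, 8, 10],
    [1, 2, 3, 4, 5, 6, 7, 10],
    [1, 2, 3, 4, 5, 6, 7],
    [1, 2, 3, 4, 5, 6, 7, 10, 11],
    [1, 2, 3, 4, 5, 6, 7, 11],
    [1, 2, 3, 5, 8, 9],
    [1, 2, 3, 5, 8, 9, 10],
    [1, 2, 3, 5, 8, 9, 11],
    [1, 2, 3, 5, 8, 9, 10, 11],
    [1, 2, 3, 6, 9, 10, 11],
    [1, 2, 3, 6, 9, 11],
    [1, 2, 3, 6, 9, 10],
    [1, 2, 3, 6, 9],
    [1, 2, 3, 4, 7],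
    [1, 2, 3, 4, 7, 10],
    [1, 2, 3, 4, 7, 11],
    [1, 2, 3, 4, 7, 10, 11],
    [1, 2, 3, 4, 5, 6, 7, 8, 10, 11],
    [1, 2, 3, 4, 5, 6, 7, 8, 11],
    [1, 2, 3, 4, 5, 6, 7, 8, 10],
    [1, 2, 3, 4, 5, 6, 7, 8],
    [1, 2, 3, 5, 9, 11],
    [1, 2, 3, 5, 9, 10, 11],
    [1, 2, 3, 5, 9],
    [1, 2, 3, 5, 9, 10],
    [1, 2, 3, 6, 8, 9, 10],
    [1, 2, 3, 6, 8, 9],
    [1, 2, 3, 6, 8, 9, 10, 11],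
    [1, 2, 3, 6, 8, 9, 11],
    [0, 1],
    [0, 1, 10],
    [0, 1, 11],
    [0, 1, 10, 11],
    [0, 1, 5, 6, 10],
    [0, 1, 5, 6],
    [0, 1, 5, 6, 10, 11],
    [0, 1, 5, 6, 11],
    [0, 1, 4, 5, 7, 10],
    [0, 1, 4, 5, 7],
    [0, 1, 4, 5, 7, 10, 11],
    [0, 1, 4, 5, 7, 11],
    [0, 1, 4, 6, 7],
    [0, 1, 4, 6, 7, 10],
    [0, 1, 4, 6, 7, 11],
    [0, 1, 4, 6, 7, 10, 11],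
    [0, 1, 8, 11],
    [0, 1, 8, 10, 11],
    [0, 1, 8],
    [0, 1, 8, 10],
    [0, 1, 5, 6, 8, 10, 11],
    [0, 1, 5, 6, 8, 11],
    [0, 1, 5, 6, 8, 10],
    [0, 1, 5, 6, 8],
    [0, 1, 4, 5, 7, 8, 10, 11],
    [0, 1, 4, 5, 7, 8, 11],
    [0, 1, 4, 5, 7, 8, 10],
    [0, 1, 4, 5, 7, 8],
    [0, 1, 4, 6, 7, 8, 11],
    [0, 1, 4, 6, 7, 8, 10, 11],
    [0, 1, 4, 6, 7, 8],
    [0, 1, 4, 6, 7, 8, 10],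
    [0, 1, 9, 10],
    [0, 1, 9],
    [0, 1, 9, 10, 11],
    [0, 1, 9, 11],
    [0, 1, 5, 6, 9],
    [0, 1, 5, 6, 9, 10],
    [0, 1, 5, 6, 9, 11],
    [0, 1, 5, 6, 9, 10, 11],
    [0, 1, 4, 5, 7, 9],
    [0, 1, 4, 5, 7, 9, 10],
    [0, 1, 4, 5, 7, 9, 11],
    [0, 1, 4, 5, 7, 9, 10, 11],
    [0, 1, 4, 6, 7, 9, 10],
    [0, 1, 4, 6, 7, 9],
    [0, 1, 4, 6, 7, 9, 10, 11],
    [0, 1, 4, 6, 7, 9, 11],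
    [0, 1, 8, 9, 10, 11],
    [0, 1, 8, 9, 11],
    [0, 1, 8, 9, 10],
    [0, 1, 8, 9],
    [0, 1, 5, 6, 8, 9, 11],
    [0, 1, 5, 6, 8, 9, 10, 11],
    [0, 1, 5, 6, 8, 9],
    [0, 1, 5, 6, 8, 9, 10],
    [0, 1, 4, 5, 7, 8, 9, 11],
    [0, 1, 4, 5, 7, 8, 9, 10, 11],
    [0, 1, 4, 5, 7, 8, 9],
    [0, 1, 4, 5, 7, 8, 9, 10],
    [0, 1, 4, 6, 7, 8, 9, 10, 11],
    [0, 1, 4, 6, 7, 8, 9, 11],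
    [0, 1, 4, 6, 7, 8, 9, 10],
    [0, 1, 4, 6, 7, 8, 9],
    [0, 1, 2, 5, 6, 7, 8, 11],
    [0, 1, 2, 5, 6, 7, 8, 10, 11],
    [0, 1, 2, 5, 6, 7, 8],
    [0, 1, 2, 5, 6, 7, 8, 10],
    [0, 1, 2, 7, 8],
    [0, 1, 2, 7, 8, 10],
    [0, 1, 2, 7, 8, 11],
    [0, 1, 2, 7, 8, 10, 11],
    [0, 1, 2, 4, 6, 8, 10],
    [0, 1, 2, 4, 6, 8],
    [0, 1, 2, 4, 6, 8, 10, 11],
    [0, 1, 2, 4, 6, 8, 11],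
    [0, 1, 2, 4, 5, 8, 10, 11],
    [0, 1, 2, 4, 5, 8, 11],
    [0, 1, 2, 4, 5, 8, 10],
    [0, 1, 2, 4, 5, 8],
    [0, 1, 2, 5, 6, 7],
    [0, 1, 2, 5, 6, 7, 10],
    [0, 1, 2, 5, 6, 7, 11],
    [0, 1, 2, 5, 6, 7, 10, 11],
    [0, 1, 2, 7, 11],
    [0, 1, 2, 7, 10, 11],
    [0, 1, 2, 7],
    [0, 1, 2, 7, 10],
    [0, 1, 2, 4, 6, 10, 11],
    [0, 1, 2, 4, 6, 11],
    [0, 1, 2, 4, 6, 10],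
    [0, 1, 2, 4, 6],
    [0, 1, 2, 4, 5, 10],
    [0, 1, 2, 4, 5],
    [0, 1, 2, 4, 5, 10, 11],
    [0, 1, 2, 4, 5, 11],
    [0, 1, 2, 5, 6, 7, 8, 9, 10, 11],
    [0, 1, 2, 5, 6, 7, 8, 9, 11],
    [0, 1, 2, 5, 6, 7, 8, 9, 10],
    [0, 1, 2, 5, 6, 7, 8, 9],
    [0, 1, 2, 7, 8, 9, 10],
    [0, 1, 2, 7, 8, 9],
    [0, 1, 2, 7, 8, 9, 10, 11],
    [0, 1, 2, 7, 8, 9, 11],
    [0, 1, 2, 4, 6, 8, 9],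
    [0, 1, 2, 4, 6, 8, 9, 10],
    [0, 1, 2, 4, 6, 8, 9, 11],
    [0, 1, 2, 4, 6, 8, 9, 10, 11],
    [0, 1, 2, 4, 5, 8, 9, 11],
    [0, 1, 2, 4, 5, 8, 9, 10, 11],
    [0, 1, 2, 4, 5, 8, 9],
    [0, 1, 2, 4, 5, 8, 9, 10],
    [0, 1, 2, 5, 6, 7, 9, 10],
    [0, 1, 2, 5, 6, 7, 9],
    [0, 1, 2, 5, 6, 7, 9, 10, 11],
    [0, 1, 2, 5, 6, 7, 9, 11],
    [0, 1, 2, 7, 9, 10, 11],
    [0, 1, 2, 7, 9, 11],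
    [0, 1, 2, 7, 9, 10],
    [0, 1, 2, 7, 9],
    [0, 1, 2, 4, 6, 9, 11],
    [0, 1, 2, 4, 6, 9, 10, 11],
    [0, 1, 2, 4, 6, 9],
    [0, 1, 2, 4, 6, 9, 10],
    [0, 1, 2, 4, 5, 9],
    [0, 1, 2, 4, 5, 9, 10],
    [0, 1, 2, 4, 5, 9, 11],
    [0, 1, 2, 4, 5, 9, 10, 11],
    [0, 1, 3, 4, 5, 6, 9, 11],
    [0, 1, 3, 4, 5, 6, 9, 10, 11],
    [0, 1, 3, 4, 5, 6, 9],
    [0, 1, 3, 4, 5, 6, 9, 10],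
    [0, 1, 3, 4, 9, 10, 11],
    [0, 1, 3, 4, 9, 11],
    [0, 1, 3, 4, 9, 10],
    [0, 1, 3, 4, 9],
    [0, 1, 3, 6, 7, 9, 11],
    [0, 1, 3, 6, 7, 9, 10, 11],
    [0, 1, 3, 6, 7, 9],
    [0, 1, 3, 6, 7, 9, 10],
    [0, 1, 3, 5, 7, 9, 10, 11],
    [0, 1, 3, 5, 7, 9, 11],
    [0, 1, 3, 5, 7, 9, 10],
    [0, 1, 3, 5, 7, 9],
    [0, 1, 3, 4, 5, 6, 8, 9],
    [0, 1, 3, 4, 5, 6, 8, 9, 10],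
    [0, 1, 3, 4, 5, 6, 8, 9, 11],
    [0, 1, 3, 4, 5, 6, 8, 9, 10, 11],
    [0, 1, 3, 4, 8, 9, 10],
    [0, 1, 3, 4, 8, 9],
    [0, 1, 3, 4, 8, 9, 10, 11],
    [0, 1, 3, 4, 8, 9, 11],
    [0, 1, 3, 6, 7, 8, 9],
    [0, 1, 3, 6, 7, 8, 9, 10],
    [0, 1, 3, 6, 7, 8, 9, 11],
    [0, 1, 3, 6, 7, 8, 9, 10, 11],
    [0, 1, 3, 5, 7, 8, 9, 10],
    [0, 1, 3, 5, 7, 8, 9],
    [0, 1, 3, 5, 7, 8, 9, 10, 11],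
    [0, 1, 3, 5, 7, 8, 9, 11],
    [0, 1, 3, 4, 5, 6, 10, 11],
    [0, 1, 3, 4, 5, 6, 11],
    [0, 1, 3, 4, 5, 6, 10],
    [0, 1, 3, 4, 5, 6],
    [0, 1, 3, 4, 11],
    [0, 1, 3, 4, 10, 11],
    [0, 1, 3, 4],
    [0, 1, 3, 4, 10],
    [0, 1, 3, 6, 7, 10, 11],
    [0, 1, 3, 6, 7, 11],
    [0, 1, 3, 6, 7, 10],
    [0, 1, 3, 6, 7],
    [0, 1, 3, 5, 7, 11],
    [0, 1, 3, 5, 7, 10, 11],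
    [0, 1, 3, 5, 7],
    [0, 1, 3, 5, 7, 10],
    [0, 1, 3, 4, 5, 6, 8, 10],
    [0, 1, 3, 4, 5, 6, 8],
    [0, 1, 3, 4, 5, 6, 8, 10, 11],
    [0, 1, 3, 4, 5, 6, 8, 11],
    [0, 1, 3, 4, 8],
    [0, 1, 3, 4, 8, 10],
    [0, 1, 3, 4, 8, 11],
    [0, 1, 3, 4, 8, 10, 11],
    [0, 1, 3, 6, 7, 8, 10],
    [0, 1, 3, 6, 7, 8],
    [0, 1, 3, 6, 7, 8, 10, 11],
    [0, 1, 3, 6, 7, 8, 11],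
    [0, 1, 3, 5, 7, 8],
    [0, 1, 3, 5, 7, 8, 10],
    [0, 1, 3, 5, 7, 8, 11],
    [0, 1, 3, 5, 7, 8, 10, 11],
    [0, 1, 2, 3, 4, 7, 8, 9],
    [0, 1, 2, 3, 4, 7, 8, 9, 10],
    [0, 1, 2, 3, 4, 7, 8, 9, 11],
    [0, 1, 2, 3, 4, 7, 8, 9, 10, 11],
    [0, 1, 2, 3, 4, 5, 6, 7, 8, 9, 11],
    [0, 1, 2, 3, 4, 5, 6, 7, 8, 9, 10, 11],
    [0, 1, 2, 3, 4, 5, 6, 7, 8, 9],
    [0, 1, 2, 3, 4, 5, 6, 7, 8, 9, 10],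
    [0, 1, 2, 3, 5, 8, 9, 11],
    [0, 1, 2, 3, 5, 8, 9, 10, 11],
    [0, 1, 2, 3, 5, 8, 9],
    [0, 1, 2, 3, 5, 8, 9, 10],
    [0, 1, 2, 3, 6, 8, 9],
    [0, 1, 2, 3, 6, 8, 9, 10],
    [0, 1, 2, 3, 6, 8, 9, 11],
    [0, 1, 2, 3, 6, 8, 9, 10, 11],
    [0, 1, 2, 3, 4, 7, 9, 11],
    [0, 1, 2, 3, 4, 7, 9, 10, 11],
    [0, 1, 2, 3, 4, 7, 9],
    [0, 1, 2, 3, 4, 7, 9, 10],
    [0, 1, 2, 3, 4, 5, 6, 7, 9],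
    [0, 1, 2, 3, 4, 5, 6, 7, 9, 10],
    [0, 1, 2, 3, 4, 5, 6, 7, 9, 11],
    [0, 1, 2, 3, 4, 5, 6, 7, 9, 10, 11],
    [0, 1, 2, 3, 5, 9],
    [0, 1, 2, 3, 5, 9, 10],
    [0, 1, 2, 3, 5, 9, 11],
    [0, 1, 2, 3, 5, 9, 10, 11],
    [0, 1, 2, 3, 6, 9, 11],
    [0, 1, 2, 3, 6, 9, 10, 11],
    [0, 1, 2, 3, 6, 9],
    [0, 1, 2, 3, 6, 9, 10],
    [0, 1, 2, 3, 4, 7, 8, 10],
    [0, 1, 2, 3, 4, 7, 8],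
    [0, 1, 2, 3, 4, 7, 8, 10, 11],
    [0, 1, 2, 3, 4, 7, 8, 11],
    [0, 1, 2, 3, 4, 5, 6, 7, 8, 10, 11],
    [0, 1, 2, 3, 4, 5, 6, 7, 8, 11],
    [0, 1, 2, 3, 4, 5, 6, 7, 8, 10],
    [0, 1, 2, 3, 4, 5, 6, 7, 8],
    [0, 1, 2, 3, 5, 8, 10, 11],
    [0, 1, 2, 3, 5, 8, 11],
    [0, 1, 2, 3, 5, 8, 10],
    [0, 1, 2, 3, 5, 8],
    [0, 1, 2, 3, 6, 8, 10],
    [0, 1, 2, 3, 6, 8],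
    [0, 1, 2, 3, 6, 8, 10, 11],
    [0, 1, 2, 3, 6, 8, 11],
    [0, 1, 2, 3, 4, 7, 10, 11],
    [0, 1, 2, 3, 4, 7, 11],
    [0, 1, 2, 3, 4, 7, 10],
    [0, 1, 2, 3, 4, 7],
    [0, 1, 2, 3, 4, 5, 6, 7, 10],
    [0, 1, 2, 3, 4, 5, 6, 7],
    [0, 1, 2, 3, 4, 5, 6, 7, 10, 11],
    [0, 1, 2, 3, 4, 5, 6, 7, 11],
    [0, 1, 2, 3, 5, 10],
    [0, 1, 2, 3, 5],
    [0, 1, 2, 3, 5, 10, 11],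
    [0, 1, 2, 3, 5, 11],
    [0, 1, 2, 3, 6, 10, 11],
    [0, 1, 2, 3, 6, 11],
    [0, 1, 2, 3, 6, 10],
    [0, 1, 2, 3, 6],
    [0, 1, 4, 5, 6, 9, 11],
    [0, 1, 4, 5, 6, 9, 10, 11],
    [0, 1, 4, 5, 6, 9],
    [0, 1, 4, 5, 6, 9, 10],
    [0, 1, 4, 9, 11],
    [0, 1, 4, 9, 10, 11],
    [0, 1, 4, 9],
    [0, 1, 4, 9, 10],
    [0, 1, 6, 7, 9],
    [0, 1, 6, 7, 9, 10],
    [0, 1, 6, 7, 9, 11],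
    [0, 1, 6, 7, 9, 10, 11],
    [0, 1, 5, 7, 9],
    [0, 1, 5, 7, 9, 10],
    [0, 1, 5, 7, 9, 11],
    [0, 1, 5, 7, 9, 10, 11],
    [0, 1, 4, 5, 6, 8, 9],
    [0, 1, 4, 5, 6, 8, 9, 10],
    [0, 1, 4, 5, 6, 8, 9, 11],
    [0, 1, 4, 5, 6, 8, 9, 10, 11],
    [0, 1, 4, 8, 9],
    [0, 1, 4, 8, 9, 10],
    [0, 1, 4, 8, 9, 11],
    [0, 1, 4, 8, 9, 10, 11],
    [0, 1, 6, 7, 8, 9, 11],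
    [0, 1, 6, 7, 8, 9, 10, 11],
    [0, 1, 6, 7, 8, 9],
    [0, 1, 6, 7, 8, 9, 10],
    [0, 1, 5, 7, 8, 9, 11],
    [0, 1, 5, 7, 8, 9, 10, 11],
    [0, 1, 5, 7, 8, 9],
    [0, 1, 5, 7, 8, 9, 10],
    [0, 1, 4, 5, 6, 10, 11],
    [0, 1, 4, 5, 6, 11],
    [0, 1, 4, 5, 6, 10],
    [0, 1, 4, 5, 6],
    [0, 1, 4, 10, 11],
    [0, 1, 4, 11],
    [0, 1, 4, 10],
    [0, 1, 4],
    [0, 1, 6, 7, 10],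
    [0, 1, 6, 7],
    [0, 1, 6, 7, 10, 11],
    [0, 1, 6, 7, 11],
    [0, 1, 5, 7, 10],
    [0, 1, 5, 7],
    [0, 1, 5, 7, 10, 11],
    [0, 1, 5, 7, 11],
    [0, 1, 4, 5, 6, 8, 10],
    [0, 1, 4, 5, 6, 8],
    [0, 1, 4, 5, 6, 8, 10, 11],
    [0, 1, 4, 5, 6, 8, 11],
    [0, 1, 4, 8, 10],
    [0, 1, 4, 8],
    [0, 1, 4, 8, 10, 11],
    [0, 1, 4, 8, 11],
    [0, 1, 6, 7, 8, 10, 11],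
    [0, 1, 6, 7, 8, 11],
    [0, 1, 6, 7, 8, 10],
    [0, 1, 6, 7, 8],
    [0, 1, 5, 7, 8, 10, 11],
    [0, 1, 5, 7, 8, 11],
    [0, 1, 5, 7, 8, 10],
    [0, 1, 5, 7, 8],
    [0, 1, 2, 4, 7, 8, 9],
    [0, 1, 2, 4, 7, 8, 9, 10],
    [0, 1, 2, 4, 7, 8, 9, 11],
    [0, 1, 2, 4, 7, 8, 9, 10, 11],
    [0, 1, 2, 4, 5, 6, 7, 8, 9, 10, 11],
    [0, 1, 2, 4, 5, 6, 7, 8, 9, 11],
    [0, 1, 2, 4, 5, 6, 7, 8, 9, 10],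
    [0, 1, 2, 4, 5, 6, 7, 8, 9],
    [0, 1, 2, 5, 8, 9],
    [0, 1, 2, 5, 8, 9, 10],
    [0, 1, 2, 5, 8, 9, 11],
    [0, 1, 2, 5, 8, 9, 10, 11],
    [0, 1, 2, 6, 8, 9, 10, 11],
    [0, 1, 2, 6, 8, 9, 11],
    [0, 1, 2, 6, 8, 9, 10],
    [0, 1, 2, 6, 8, 9],
    [0, 1, 2, 4, 7, 9, 11],
    [0, 1, 2, 4, 7, 9, 10, 11],
    [0, 1, 2, 4, 7, 9],
    [0, 1, 2, 4, 7, 9, 10],
    [0, 1, 2, 4, 5, 6, 7, 9, 10],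
    [0, 1, 2, 4, 5, 6, 7, 9],
    [0, 1, 2, 4, 5, 6, 7, 9, 10, 11],
    [0, 1, 2, 4, 5, 6, 7, 9, 11],
    [0, 1, 2, 5, 9, 11],
    [0, 1, 2, 5, 9, 10, 11],
    [0, 1, 2, 5, 9],
    [0, 1, 2, 5, 9, 10],
    [0, 1, 2, 6, 9, 10],
    [0, 1, 2, 6, 9],
    [0, 1, 2, 6, 9, 10, 11],
    [0, 1, 2, 6, 9, 11],
    [0, 1, 2, 4, 7, 8, 10],
    [0, 1, 2, 4, 7, 8],
    [0, 1, 2, 4, 7, 8, 10, 11],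
    [0, 1, 2, 4, 7, 8, 11],
    [0, 1, 2, 4, 5, 6, 7, 8, 11],
    [0, 1, 2, 4, 5, 6, 7, 8, 10, 11],
    [0, 1, 2, 4, 5, 6, 7, 8],
    [0, 1, 2, 4, 5, 6, 7, 8, 10],
    [0, 1, 2, 5, 8, 10],
    [0, 1, 2, 5, 8],
    [0, 1, 2, 5, 8, 10, 11],
    [0, 1, 2, 5, 8, 11],
    [0, 1, 2, 6, 8, 11],
    [0, 1, 2, 6, 8, 10, 11],
    [0, 1, 2, 6, 8],
    [0, 1, 2, 6, 8, 10],
    [0, 1, 2, 4, 7, 10, 11],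
    [0, 1, 2, 4, 7, 11],
    [0, 1, 2, 4, 7, 10],
    [0, 1, 2, 4, 7],
    [0, 1, 2, 4, 5, 6, 7],
    [0, 1, 2, 4, 5, 6, 7, 10],
    [0, 1, 2, 4, 5, 6, 7, 11],
    [0, 1, 2, 4, 5, 6, 7, 10, 11],
    [0, 1, 2, 5, 10, 11],
    [0, 1, 2, 5, 11],
    [0, 1, 2, 5, 10],
    [0, 1, 2, 5],
    [0, 1, 2, 6],
    [0, 1, 2, 6, 10],
    [0, 1, 2, 6, 11],
    [0, 1, 2, 6, 10, 11],
    [0, 1, 3],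
    [0, 1, 3, 10],
    [0, 1, 3, 11],
    [0, 1, 3, 10, 11],
    [0, 1, 3, 5, 6],
    [0, 1, 3, 5, 6, 10],
    [0, 1, 3, 5, 6, 11],
    [0, 1, 3, 5, 6, 10, 11],
    [0, 1, 3, 4, 5, 7, 10, 11],
    [0, 1, 3, 4, 5, 7, 11],
    [0, 1, 3, 4, 5, 7, 10],
    [0, 1, 3, 4, 5, 7],
    [0, 1, 3, 4, 6, 7, 10, 11],
    [0, 1, 3, 4, 6, 7, 11],
    [0, 1, 3, 4, 6, 7, 10],
    [0, 1, 3, 4, 6, 7],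
    [0, 1, 3, 8, 11],
    [0, 1, 3, 8, 10, 11],
    [0, 1, 3, 8],
    [0, 1, 3, 8, 10],
    [0, 1, 3, 5, 6, 8, 11],
    [0, 1, 3, 5, 6, 8, 10, 11],
    [0, 1, 3, 5, 6, 8],
    [0, 1, 3, 5, 6, 8, 10],
    [0, 1, 3, 4, 5, 7, 8, 10],
    [0, 1, 3, 4, 5, 7, 8],
    [0, 1, 3, 4, 5, 7, 8, 10, 11],
    [0, 1, 3, 4, 5, 7, 8, 11],
    [0, 1, 3, 4, 6, 7, 8, 10],
    [0, 1, 3, 4, 6, 7, 8],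
    [0, 1, 3, 4, 6, 7, 8, 10, 11],
    [0, 1, 3, 4, 6, 7, 8, 11],
    [0, 1, 3, 9, 10],
    [0, 1, 3, 9],
    [0, 1, 3, 9, 10, 11],
    [0, 1, 3, 9, 11],
    [0, 1, 3, 5, 6, 9, 10],
    [0, 1, 3, 5, 6, 9],
    [0, 1, 3, 5, 6, 9, 10, 11],
    [0, 1, 3, 5, 6, 9, 11],
    [0, 1, 3, 4, 5, 7, 9, 11],
    [0, 1, 3, 4, 5, 7, 9, 10, 11],
    [0, 1, 3, 4, 5, 7, 9],
    [0, 1, 3, 4, 5, 7, 9, 10],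
    [0, 1, 3, 4, 6, 7, 9, 11],
    [0, 1, 3, 4, 6, 7, 9, 10, 11],
    [0, 1, 3, 4, 6, 7, 9],
    [0, 1, 3, 4, 6, 7, 9, 10],
    [0, 1, 3, 8, 9, 10, 11],
    [0, 1, 3, 8, 9, 11],
    [0, 1, 3, 8, 9, 10],
    [0, 1, 3, 8, 9],
    [0, 1, 3, 5, 6, 8, 9, 10, 11],
    [0, 1, 3, 5, 6, 8, 9, 11],
    [0, 1, 3, 5, 6, 8, 9, 10],
    [0, 1, 3, 5, 6, 8, 9],
    [0, 1, 3, 4, 5, 7, 8, 9],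
    [0, 1, 3, 4, 5, 7, 8, 9, 10],
    [0, 1, 3, 4, 5, 7, 8, 9, 11],
    [0, 1, 3, 4, 5, 7, 8, 9, 10, 11],
    [0, 1, 3, 4, 6, 7, 8, 9],
    [0, 1, 3, 4, 6, 7, 8, 9, 10],
    [0, 1, 3, 4, 6, 7, 8, 9, 11],
    [0, 1, 3, 4, 6, 7, 8, 9, 10, 11],
    [0, 1, 2, 3, 5, 6, 7, 8, 11],
    [0, 1, 2, 3, 5, 6, 7, 8, 10, 11],
    [0, 1, 2, 3, 5, 6, 7, 8],
    [0, 1, 2, 3, 5, 6, 7, 8, 10],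
    [0, 1, 2, 3, 7, 8, 10],
    [0, 1, 2, 3, 7, 8],
    [0, 1, 2, 3, 7, 8, 10, 11],
    [0, 1, 2, 3, 7, 8, 11],
    [0, 1, 2, 3, 4, 6, 8, 10, 11],
    [0, 1, 2, 3, 4, 6, 8, 11],
    [0, 1, 2, 3, 4, 6, 8, 10],
    [0, 1, 2, 3, 4, 6, 8],
    [0, 1, 2, 3, 4, 5, 8],
    [0, 1, 2, 3, 4, 5, 8, 10],
    [0, 1, 2, 3, 4, 5, 8, 11],
    [0, 1, 2, 3, 4, 5, 8, 10, 11],
    [0, 1, 2, 3, 5, 6, 7],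
    [0, 1, 2, 3, 5, 6, 7, 10],
    [0, 1, 2, 3, 5, 6, 7, 11],
    [0, 1, 2, 3, 5, 6, 7, 10, 11],
    [0, 1, 2, 3, 7, 10, 11],
    [0, 1, 2, 3, 7, 11],
    [0, 1, 2, 3, 7, 10],
    [0, 1, 2, 3, 7],
    [0, 1, 2, 3, 4, 6, 10],
    [0, 1, 2, 3, 4, 6],
    [0, 1, 2, 3, 4, 6, 10, 11],
    [0, 1, 2, 3, 4, 6, 11],
    [0, 1, 2, 3, 4, 5, 11],
    [0, 1, 2, 3, 4, 5, 10, 11],
    [0, 1, 2, 3, 4, 5],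
    [0, 1, 2, 3, 4, 5, 10],
    [0, 1, 2, 3, 5, 6, 7, 8, 9, 10, 11],
    [0, 1, 2, 3, 5, 6, 7, 8, 9, 11],
    [0, 1, 2, 3, 5, 6, 7, 8, 9, 10],
    [0, 1, 2, 3, 5, 6, 7, 8, 9],
    [0, 1, 2, 3, 7, 8, 9],
    [0, 1, 2, 3, 7, 8, 9, 10],
    [0, 1, 2, 3, 7, 8, 9, 11],
    [0, 1, 2, 3, 7, 8, 9, 10, 11],
    [0, 1, 2, 3, 4, 6, 8, 9, 11],
    [0, 1, 2, 3, 4, 6, 8, 9, 10, 11],
    [0, 1, 2, 3, 4, 6, 8, 9],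
    [0, 1, 2, 3, 4, 6, 8, 9, 10],
    [0, 1, 2, 3, 4, 5, 8, 9, 10],
    [0, 1, 2, 3, 4, 5, 8, 9],
    [0, 1, 2, 3, 4, 5, 8, 9, 10, 11],
    [0, 1, 2, 3, 4, 5, 8, 9, 11],
    [0, 1, 2, 3, 5, 6, 7, 9, 10],
    [0, 1, 2, 3, 5, 6, 7, 9],
    [0, 1, 2, 3, 5, 6, 7, 9, 10, 11],
    [0, 1, 2, 3, 5, 6, 7, 9, 11],
    [0, 1, 2, 3, 7, 9, 11],
    [0, 1, 2, 3, 7, 9, 10, 11],
    [0, 1, 2, 3, 7, 9],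
    [0, 1, 2, 3, 7, 9, 10],
    [0, 1, 2, 3, 4, 6, 9],
    [0, 1, 2, 3, 4, 6, 9, 10],
    [0, 1, 2, 3, 4, 6, 9, 11],
    [0, 1, 2, 3, 4, 6, 9, 10, 11],
    [0, 1, 2, 3, 4, 5, 9, 10, 11],
    [0, 1, 2, 3, 4, 5, 9, 11],
    [0, 1, 2, 3, 4, 5, 9, 10],
    [0, 1, 2, 3, 4, 5, 9],
    [0, 1, 4, 7, 8, 9],
    [0, 1, 4, 7, 8, 9, 10],
    [0, 1, 4, 7, 8, 9, 11],
    [0, 1, 4, 7, 8, 9, 10, 11],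
    [0, 1, 4, 5, 6, 7, 8, 9],
    [0, 1, 4, 5, 6, 7, 8, 9, 10],
    [0, 1, 4, 5, 6, 7, 8, 9, 11],
    [0, 1, 4, 5, 6, 7, 8, 9, 10, 11],
    [0, 1, 5, 8, 9, 10],
    [0, 1, 5, 8, 9],
    [0, 1, 5, 8, 9, 10, 11],
    [0, 1, 5, 8, 9, 11],
    [0, 1, 6, 8, 9, 10],
    [0, 1, 6, 8, 9],
    [0, 1, 6, 8, 9, 10, 11],
    [0, 1, 6, 8, 9, 11],
    [0, 1, 4, 7, 9, 11],
    [0, 1, 4, 7, 9, 10, 11],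
    [0, 1, 4, 7, 9],
    [0, 1, 4, 7, 9, 10],
    [0, 1, 4, 5, 6, 7, 9, 11],
    [0, 1, 4, 5, 6, 7, 9, 10, 11],
    [0, 1, 4, 5, 6, 7, 9],
    [0, 1, 4, 5, 6, 7, 9, 10],
    [0, 1, 5, 9, 10, 11],
    [0, 1, 5, 9, 11],
    [0, 1, 5, 9, 10],
    [0, 1, 5, 9],
    [0, 1, 6, 9, 10, 11],
    [0, 1, 6, 9, 11],
    [0, 1, 6, 9, 10],
    [0, 1, 6, 9],
    [0, 1, 4, 7, 8, 10],
    [0, 1, 4, 7, 8],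
    [0, 1, 4, 7, 8, 10, 11],
    [0, 1, 4, 7, 8, 11],
    [0, 1, 4, 5, 6, 7, 8, 10],
    [0, 1, 4, 5, 6, 7, 8],
    [0, 1, 4, 5, 6, 7, 8, 10, 11],
    [0, 1, 4, 5, 6, 7, 8, 11],
    [0, 1, 5, 8],
    [0, 1, 5, 8, 10],
    [0, 1, 5, 8, 11],
    [0, 1, 5, 8, 10, 11],
    [0, 1, 6, 8],
    [0, 1, 6, 8, 10],
    [0, 1, 6, 8, 11],
    [0, 1, 6, 8, 10, 11],
    [0, 1, 4, 7, 10, 11],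
    [0, 1, 4, 7, 11],
    [0, 1, 4, 7, 10],
    [0, 1, 4, 7],
    [0, 1, 4, 5, 6, 7, 10, 11],
    [0, 1, 4, 5, 6, 7, 11],
    [0, 1, 4, 5, 6, 7, 10],
    [0, 1, 4, 5, 6, 7],
    [0, 1, 5, 11],
    [0, 1, 5, 10, 11],
    [0, 1, 5],
    [0, 1, 5, 10],
    [0, 1, 6, 11],
    [0, 1, 6, 10, 11],
    [0, 1, 6],
    [0, 1, 6, 10],
    [0, 1, 2, 4, 5, 6, 9, 11],
    [0, 1, 2, 4, 5, 6, 9, 10, 11],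
    [0, 1, 2, 4, 5, 6, 9],
    [0, 1, 2, 4, 5, 6, 9, 10],
    [0, 1, 2, 4, 9, 10],
    [0, 1, 2, 4, 9],
    [0, 1, 2, 4, 9, 10, 11],
    [0, 1, 2, 4, 9, 11],
    [0, 1, 2, 6, 7, 9, 10],
    [0, 1, 2, 6, 7, 9],
    [0, 1, 2, 6, 7, 9, 10, 11],
    [0, 1, 2, 6, 7, 9, 11],
    [0, 1, 2, 5, 7, 9, 11],
    [0, 1, 2, 5, 7, 9, 10, 11],
    [0, 1, 2, 5, 7, 9],
    [0, 1, 2, 5, 7, 9, 10],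
    [0, 1, 2, 4, 5, 6, 8, 9],
    [0, 1, 2, 4, 5, 6, 8, 9, 10],
    [0, 1, 2, 4, 5, 6, 8, 9, 11],
    [0, 1, 2, 4, 5, 6, 8, 9, 10, 11],
    [0, 1, 2, 4, 8, 9, 10, 11],
    [0, 1, 2, 4, 8, 9, 11],
    [0, 1, 2, 4, 8, 9, 10],
    [0, 1, 2, 4, 8, 9],
    [0, 1, 2, 6, 7, 8, 9, 10, 11],
    [0, 1, 2, 6, 7, 8, 9, 11],
    [0, 1, 2, 6, 7, 8, 9, 10],
    [0, 1, 2, 6, 7, 8, 9],
    [0, 1, 2, 5, 7, 8, 9],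
    [0, 1, 2, 5, 7, 8, 9, 10],
    [0, 1, 2, 5, 7, 8, 9, 11],
    [0, 1, 2, 5, 7, 8, 9, 10, 11],
    [0, 1, 2, 4, 5, 6, 10, 11],
    [0, 1, 2, 4, 5, 6, 11],
    [0, 1, 2, 4, 5, 6, 10],
    [0, 1, 2, 4, 5, 6],
    [0, 1, 2, 4],
    [0, 1, 2, 4, 10],
    [0, 1, 2, 4, 11],
    [0, 1, 2, 4, 10, 11],
    [0, 1, 2, 6, 7],
    [0, 1, 2, 6, 7, 10],
    [0, 1, 2, 6, 7, 11],
    [0, 1, 2, 6, 7, 10, 11],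
    [0, 1, 2, 5, 7, 10, 11],
    [0, 1, 2, 5, 7, 11],
    [0, 1, 2, 5, 7, 10],
    [0, 1, 2, 5, 7],
    [0, 1, 2, 4, 5, 6, 8, 10],
    [0, 1, 2, 4, 5, 6, 8],
    [0, 1, 2, 4, 5, 6, 8, 10, 11],
    [0, 1, 2, 4, 5, 6, 8, 11],
    [0, 1, 2, 4, 8, 11],
    [0, 1, 2, 4, 8, 10, 11],
    [0, 1, 2, 4, 8],
    [0, 1, 2, 4, 8, 10],
    [0, 1, 2, 6, 7, 8, 11],
    [0, 1, 2, 6, 7, 8, 10, 11],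
    [0, 1, 2, 6, 7, 8],
    [0, 1, 2, 6, 7, 8, 10],
    [0, 1, 2, 5, 7, 8, 10],
    [0, 1, 2, 5, 7, 8],
    [0, 1, 2, 5, 7, 8, 10, 11],
    [0, 1, 2, 5, 7, 8, 11],
    [0, 1, 3, 5, 6, 7, 8, 11],
    [0, 1, 3, 5, 6, 7, 8, 10, 11],
    [0, 1, 3, 5, 6, 7, 8],
    [0, 1, 3, 5, 6, 7, 8, 10],
    [0, 1, 3, 7, 8, 11],
    [0, 1, 3, 7, 8, 10, 11],
    [0, 1, 3, 7, 8],
    [0, 1, 3, 7, 8, 10],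
    [0, 1, 3, 4, 6, 8, 11],
    [0, 1, 3, 4, 6, 8, 10, 11],
    [0, 1, 3, 4, 6, 8],
    [0, 1, 3, 4, 6, 8, 10],
    [0, 1, 3, 4, 5, 8, 11],
    [0, 1, 3, 4, 5, 8, 10, 11],
    [0, 1, 3, 4, 5, 8],
    [0, 1, 3, 4, 5, 8, 10],
    [0, 1, 3, 5, 6, 7],
    [0, 1, 3, 5, 6, 7, 10],
    [0, 1, 3, 5, 6, 7, 11],
    [0, 1, 3, 5, 6, 7, 10, 11],
    [0, 1, 3, 7],
    [0, 1, 3, 7, 10],
    [0, 1, 3, 7, 11],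
    [0, 1, 3, 7, 10, 11],
    [0, 1, 3, 4, 6],
    [0, 1, 3, 4, 6, 10],
    [0, 1, 3, 4, 6, 11],
    [0, 1, 3, 4, 6, 10, 11],
    [0, 1, 3, 4, 5],
    [0, 1, 3, 4, 5, 10],
    [0, 1, 3, 4, 5, 11],
    [0, 1, 3, 4, 5, 10, 11],
    [0, 1, 3, 5, 6, 7, 8, 9, 10, 11],
    [0, 1, 3, 5, 6, 7, 8, 9, 11],
    [0, 1, 3, 5, 6, 7, 8, 9, 10],
    [0, 1, 3, 5, 6, 7, 8, 9],
    [0, 1, 3, 7, 8, 9, 10, 11],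
    [0, 1, 3, 7, 8, 9, 11],
    [0, 1, 3, 7, 8, 9, 10],
    [0, 1, 3, 7, 8, 9],
    [0, 1, 3, 4, 6, 8, 9, 10, 11],
    [0, 1, 3, 4, 6, 8, 9, 11],
    [0, 1, 3, 4, 6, 8, 9, 10],
    [0, 1, 3, 4, 6, 8, 9],
    [0, 1, 3, 4, 5, 8, 9, 10, 11],
    [0, 1, 3, 4, 5, 8, 9, 11],
    [0, 1, 3, 4, 5, 8, 9, 10],
    [0, 1, 3, 4, 5, 8, 9],
    [0, 1, 3, 5, 6, 7, 9, 10],
    [0, 1, 3, 5, 6, 7, 9],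
    [0, 1, 3, 5, 6, 7, 9, 10, 11],
    [0, 1, 3, 5, 6, 7, 9, 11],
    [0, 1, 3, 7, 9, 10],
    [0, 1, 3, 7, 9],
    [0, 1, 3, 7, 9, 10, 11],
    [0, 1, 3, 7, 9, 11],
    [0, 1, 3, 4, 6, 9, 10],
    [0, 1, 3, 4, 6, 9],
    [0, 1, 3, 4, 6, 9, 10, 11],
    [0, 1, 3, 4, 6, 9, 11],
    [0, 1, 3, 4, 5, 9, 10],
    [0, 1, 3, 4, 5, 9],
    [0, 1, 3, 4, 5, 9, 10, 11],
    [0, 1, 3, 4, 5, 9, 11],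
    [0, 1, 2, 3],
    [0, 1, 2, 3, 10],
    [0, 1, 2, 3, 11],
    [0, 1, 2, 3, 10, 11],
    [0, 1, 2, 3, 5, 6, 10, 11],
    [0, 1, 2, 3, 5, 6, 11],
    [0, 1, 2, 3, 5, 6, 10],
    [0, 1, 2, 3, 5, 6],
    [0, 1, 2, 3, 4, 5, 7, 11],
    [0, 1, 2, 3, 4, 5, 7, 10, 11],
    [0, 1, 2, 3, 4, 5, 7],
    [0, 1, 2, 3, 4, 5, 7, 10],
    [0, 1, 2, 3, 4, 6, 7, 10],
    [0, 1, 2, 3, 4, 6, 7],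
    [0, 1, 2, 3, 4, 6, 7, 10, 11],
    [0, 1, 2, 3, 4, 6, 7, 11],
    [0, 1, 2, 3, 8, 11],
    [0, 1, 2, 3, 8, 10, 11],
    [0, 1, 2, 3, 8],
    [0, 1, 2, 3, 8, 10],
    [0, 1, 2, 3, 5, 6, 8, 10],
    [0, 1, 2, 3, 5, 6, 8],
    [0, 1, 2, 3, 5, 6, 8, 10, 11],
    [0, 1, 2, 3, 5, 6, 8, 11],
    [0, 1, 2, 3, 4, 5, 7, 8],
    [0, 1, 2, 3, 4, 5, 7, 8, 10],
    [0, 1, 2, 3, 4, 5, 7, 8, 11],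
    [0, 1, 2, 3, 4, 5, 7, 8, 10, 11],
    [0, 1, 2, 3, 4, 6, 7, 8, 10, 11],
    [0, 1, 2, 3, 4, 6, 7, 8, 11],
    [0, 1, 2, 3, 4, 6, 7, 8, 10],
    [0, 1, 2, 3, 4, 6, 7, 8],
    [0, 1, 2, 3, 9, 10],
    [0, 1, 2, 3, 9],
    [0, 1, 2, 3, 9, 10, 11],
    [0, 1, 2, 3, 9, 11],
    [0, 1, 2, 3, 5, 6, 9, 11],
    [0, 1, 2, 3, 5, 6, 9, 10, 11],
    [0, 1, 2, 3, 5, 6, 9],
    [0, 1, 2, 3, 5, 6, 9, 10],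
    [0, 1, 2, 3, 4, 5, 7, 9, 10, 11],
    [0, 1, 2, 3, 4, 5, 7, 9, 11],
    [0, 1, 2, 3, 4, 5, 7, 9, 10],
    [0, 1, 2, 3, 4, 5, 7, 9],
    [0, 1, 2, 3, 4, 6, 7, 9],
    [0, 1, 2, 3, 4, 6, 7, 9, 10],
    [0, 1, 2, 3, 4, 6, 7, 9, 11],
    [0, 1, 2, 3, 4, 6, 7, 9, 10, 11],
    [0, 1, 2, 3, 8, 9, 10, 11],
    [0, 1, 2, 3, 8, 9, 11],
    [0, 1, 2, 3, 8, 9, 10],
    [0, 1, 2, 3, 8, 9],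
    [0, 1, 2, 3, 5, 6, 8, 9],
    [0, 1, 2, 3, 5, 6, 8, 9, 10],
    [0, 1, 2, 3, 5, 6, 8, 9, 11],
    [0, 1, 2, 3, 5, 6, 8, 9, 10, 11],
    [0, 1, 2, 3, 4, 5, 7, 8, 9, 10],
    [0, 1, 2, 3, 4, 5, 7, 8, 9],
    [0, 1, 2, 3, 4, 5, 7, 8, 9, 10, 11],
    [0, 1, 2, 3, 4, 5, 7, 8, 9, 11],
    [0, 1, 2, 3, 4, 6, 7, 8, 9, 11],
    [0, 1, 2, 3, 4, 6, 7, 8, 9, 10, 11],
    [0, 1, 2, 3, 4, 6, 7, 8, 9],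
    [0, 1, 2, 3, 4, 6, 7, 8, 9, 10],
    [0, 1, 5, 6, 7, 8, 11],
    [0, 1, 5, 6, 7, 8, 10, 11],
    [0, 1, 5, 6, 7, 8],
    [0, 1, 5, 6, 7, 8, 10],
    [0, 1, 7, 8, 10, 11],
    [0, 1, 7, 8, 11],
    [0, 1, 7, 8, 10],
    [0, 1, 7, 8],
    [0, 1, 4, 6, 8],
    [0, 1, 4, 6, 8, 10],
    [0, 1, 4, 6, 8, 11],
    [0, 1, 4, 6, 8, 10, 11],
    [0, 1, 4, 5, 8, 10],
    [0, 1, 4, 5, 8],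
    [0, 1, 4, 5, 8, 10, 11],
    [0, 1, 4, 5, 8, 11],
    [0, 1, 5, 6, 7],
    [0, 1, 5, 6, 7, 10],
    [0, 1, 5, 6, 7, 11],
    [0, 1, 5, 6, 7, 10, 11],
    [0, 1, 7, 10],
    [0, 1, 7],
    [0, 1, 7, 10, 11],
    [0, 1, 7, 11],
    [0, 1, 4, 6, 11],
    [0, 1, 4, 6, 10, 11],
    [0, 1, 4, 6],
    [0, 1, 4, 6, 10],
    [0, 1, 4, 5, 10, 11],
    [0, 1, 4, 5, 11],
    [0, 1, 4, 5, 10],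
    [0, 1, 4, 5],
    [0, 1, 5, 6, 7, 8, 9, 10, 11],
    [0, 1, 5, 6, 7, 8, 9, 11],
    [0, 1, 5, 6, 7, 8, 9, 10],
    [0, 1, 5, 6, 7, 8, 9],
    [0, 1, 7, 8, 9, 11],
    [0, 1, 7, 8, 9, 10, 11],
    [0, 1, 7, 8, 9],
    [0, 1, 7, 8, 9, 10],
    [0, 1, 4, 6, 8, 9, 10],
    [0, 1, 4, 6, 8, 9],
    [0, 1, 4, 6, 8, 9, 10, 11],
    [0, 1, 4, 6, 8, 9, 11],
    [0, 1, 4, 5, 8, 9],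
    [0, 1, 4, 5, 8, 9, 10],
    [0, 1, 4, 5, 8, 9, 11],
    [0, 1, 4, 5, 8, 9, 10, 11],
    [0, 1, 5, 6, 7, 9, 10],
    [0, 1, 5, 6, 7, 9],
    [0, 1, 5, 6, 7, 9, 10, 11],
    [0, 1, 5, 6, 7, 9, 11],
    [0, 1, 7, 9],
    [0, 1, 7, 9, 10],
    [0, 1, 7, 9, 11],
    [0, 1, 7, 9, 10, 11],
    [0, 1, 4, 6, 9, 10, 11],
    [0, 1, 4, 6, 9, 11],
    [0, 1, 4, 6, 9, 10],
    [0, 1, 4, 6, 9],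
    [0, 1, 4, 5, 9, 11],
    [0, 1, 4, 5, 9, 10, 11],
    [0, 1, 4, 5, 9],
    [0, 1, 4, 5, 9, 10],
    [0, 1, 2],
    [0, 1, 2, 10],
    [0, 1, 2, 11],
    [0, 1, 2, 10, 11],
    [0, 1, 2, 5, 6, 11],
    [0, 1, 2, 5, 6, 10, 11],
    [0, 1, 2, 5, 6],
    [0, 1, 2, 5, 6, 10],
    [0, 1, 2, 4, 5, 7],
    [0, 1, 2, 4, 5, 7, 10],
    [0, 1, 2, 4, 5, 7, 11],
    [0, 1, 2, 4, 5, 7, 10, 11],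
    [0, 1, 2, 4, 6, 7, 11],
    [0, 1, 2, 4, 6, 7, 10, 11],
    [0, 1, 2, 4, 6, 7],
    [0, 1, 2, 4, 6, 7, 10],
    [0, 1, 2, 8, 11],
    [0, 1, 2, 8, 10, 11],
    [0, 1, 2, 8],
    [0, 1, 2, 8, 10],
    [0, 1, 2, 5, 6, 8],
    [0, 1, 2, 5, 6, 8, 10],
    [0, 1, 2, 5, 6, 8, 11],
    [0, 1, 2, 5, 6, 8, 10, 11],
    [0, 1, 2, 4, 5, 7, 8, 11],
    [0, 1, 2, 4, 5, 7, 8, 10, 11],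
    [0, 1, 2, 4, 5, 7, 8],
    [0, 1, 2, 4, 5, 7, 8, 10],
    [0, 1, 2, 4, 6, 7, 8],
    [0, 1, 2, 4, 6, 7, 8, 10],
    [0, 1, 2, 4, 6, 7, 8, 11],
    [0, 1, 2, 4, 6, 7, 8, 10, 11],
    [0, 1, 2, 9, 10],
    [0, 1, 2, 9],
    [0, 1, 2, 9, 10, 11],
    [0, 1, 2, 9, 11],
    [0, 1, 2, 5, 6, 9, 10, 11],
    [0, 1, 2, 5, 6, 9, 11],
    [0, 1, 2, 5, 6, 9, 10],
    [0, 1, 2, 5, 6, 9],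
    [0, 1, 2, 4, 5, 7, 9, 10],
    [0, 1, 2, 4, 5, 7, 9],
    [0, 1, 2, 4, 5, 7, 9, 10, 11],
    [0, 1, 2, 4, 5, 7, 9, 11],
    [0, 1, 2, 4, 6, 7, 9, 10, 11],
    [0, 1, 2, 4, 6, 7, 9, 11],
    [0, 1, 2, 4, 6, 7, 9, 10],
    [0, 1, 2, 4, 6, 7, 9],
    [0, 1, 2, 8, 9, 10, 11],
    [0, 1, 2, 8, 9, 11],
    [0, 1, 2, 8, 9, 10],
    [0, 1, 2, 8, 9],
    [0, 1, 2, 5, 6, 8, 9, 10],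
    [0, 1, 2, 5, 6, 8, 9],
    [0, 1, 2, 5, 6, 8, 9, 10, 11],
    [0, 1, 2, 5, 6, 8, 9, 11],
    [0, 1, 2, 4, 5, 7, 8, 9, 10, 11],
    [0, 1, 2, 4, 5, 7, 8, 9, 11],
    [0, 1, 2, 4, 5, 7, 8, 9, 10],
    [0, 1, 2, 4, 5, 7, 8, 9],
    [0, 1, 2, 4, 6, 7, 8, 9, 10],
    [0, 1, 2, 4, 6, 7, 8, 9],
    [0, 1, 2, 4, 6, 7, 8, 9, 10, 11],
    [0, 1, 2, 4, 6, 7, 8, 9, 11],
    [0, 1, 3, 4, 7, 8, 9],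
    [0, 1, 3, 4, 7, 8, 9, 10],
    [0, 1, 3, 4, 7, 8, 9, 11],
    [0, 1, 3, 4, 7, 8, 9, 10, 11],
    [0, 1, 3, 4, 5, 6, 7, 8, 9, 10],
    [0, 1, 3, 4, 5, 6, 7, 8, 9],
    [0, 1, 3, 4, 5, 6, 7, 8, 9, 10, 11],
    [0, 1, 3, 4, 5, 6, 7, 8, 9, 11],
    [0, 1, 3, 5, 8, 9, 10, 11],
    [0, 1, 3, 5, 8, 9, 11],
    [0, 1, 3, 5, 8, 9, 10],
    [0, 1, 3, 5, 8, 9],
    [0, 1, 3, 6, 8, 9, 11],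
    [0, 1, 3, 6, 8, 9, 10, 11],
    [0, 1, 3, 6, 8, 9],
    [0, 1, 3, 6, 8, 9, 10],
    [0, 1, 3, 4, 7, 9, 11],
    [0, 1, 3, 4, 7, 9, 10, 11],
    [0, 1, 3, 4, 7, 9],
    [0, 1, 3, 4, 7, 9, 10],
    [0, 1, 3, 4, 5, 6, 7, 9, 10, 11],
    [0, 1, 3, 4, 5, 6, 7, 9, 11],
    [0, 1, 3, 4, 5, 6, 7, 9, 10],
    [0, 1, 3, 4, 5, 6, 7, 9],
    [0, 1, 3, 5, 9, 10],
    [0, 1, 3, 5, 9],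
    [0, 1, 3, 5, 9, 10, 11],
    [0, 1, 3, 5, 9, 11],
    [0, 1, 3, 6, 9],
    [0, 1, 3, 6, 9, 10],
    [0, 1, 3, 6, 9, 11],
    [0, 1, 3, 6, 9, 10, 11],
    [0, 1, 3, 4, 7, 8, 10],
    [0, 1, 3, 4, 7, 8],
    [0, 1, 3, 4, 7, 8, 10, 11],
    [0, 1, 3, 4, 7, 8, 11],
    [0, 1, 3, 4, 5, 6, 7, 8],
    [0, 1, 3, 4, 5, 6, 7, 8, 10],
    [0, 1, 3, 4, 5, 6, 7, 8, 11],
    [0, 1, 3, 4, 5, 6, 7, 8, 10, 11],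
    [0, 1, 3, 5, 8, 11],
    [0, 1, 3, 5, 8, 10, 11],
    [0, 1, 3, 5, 8],
    [0, 1, 3, 5, 8, 10],
    [0, 1, 3, 6, 8, 10, 11],
    [0, 1, 3, 6, 8, 11],
    [0, 1, 3, 6, 8, 10],
    [0, 1, 3, 6, 8],
    [0, 1, 3, 4, 7, 10, 11],
    [0, 1, 3, 4, 7, 11],
    [0, 1, 3, 4, 7, 10],
    [0, 1, 3, 4, 7],
    [0, 1, 3, 4, 5, 6, 7, 11],
    [0, 1, 3, 4, 5, 6, 7, 10, 11],
    [0, 1, 3, 4, 5, 6, 7],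
    [0, 1, 3, 4, 5, 6, 7, 10],
    [0, 1, 3, 5],
    [0, 1, 3, 5, 10],
    [0, 1, 3, 5, 11],
    [0, 1, 3, 5, 10, 11],
    [0, 1, 3, 6, 10],
    [0, 1, 3, 6],
    [0, 1, 3, 6, 10, 11],
    [0, 1, 3, 6, 11],
    [0, 1, 2, 3, 4, 5, 6, 9, 11],
    [0, 1, 2, 3, 4, 5, 6, 9, 10, 11],
    [0, 1, 2, 3, 4, 5, 6, 9],
    [0, 1, 2, 3, 4, 5, 6, 9, 10],
    [0, 1, 2, 3, 4, 9],
    [0, 1, 2, 3, 4, 9, 10],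
    [0, 1, 2, 3, 4, 9, 11],
    [0, 1, 2, 3, 4, 9, 10, 11],
    [0, 1, 2, 3, 6, 7, 9, 10, 11],
    [0, 1, 2, 3, 6, 7, 9, 11],
    [0, 1, 2, 3, 6, 7, 9, 10],
    [0, 1, 2, 3, 6, 7, 9],
    [0, 1, 2, 3, 5, 7, 9, 10],
    [0, 1, 2, 3, 5, 7, 9],
    [0, 1, 2, 3, 5, 7, 9, 10, 11],
    [0, 1, 2, 3, 5, 7, 9, 11],
    [0, 1, 2, 3, 4, 5, 6, 8, 9],
    [0, 1, 2, 3, 4, 5, 6, 8, 9, 10],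
    [0, 1, 2, 3, 4, 5, 6, 8, 9, 11],
    [0, 1, 2, 3, 4, 5, 6, 8, 9, 10, 11],
    [0, 1, 2, 3, 4, 8, 9, 11],
    [0, 1, 2, 3, 4, 8, 9, 10, 11],
    [0, 1, 2, 3, 4, 8, 9],
    [0, 1, 2, 3, 4, 8, 9, 10],
    [0, 1, 2, 3, 6, 7, 8, 9, 10],
    [0, 1, 2, 3, 6, 7, 8, 9],
    [0, 1, 2, 3, 6, 7, 8, 9, 10, 11],
    [0, 1, 2, 3, 6, 7, 8, 9, 11],
    [0, 1, 2, 3, 5, 7, 8, 9, 10, 11],
    [0, 1, 2, 3, 5, 7, 8, 9, 11],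
    [0, 1, 2, 3, 5, 7, 8, 9, 10],
    [0, 1, 2, 3, 5, 7, 8, 9],
    [0, 1, 2, 3, 4, 5, 6, 10, 11],
    [0, 1, 2, 3, 4, 5, 6, 11],
    [0, 1, 2, 3, 4, 5, 6, 10],
    [0, 1, 2, 3, 4, 5, 6],
    [0, 1, 2, 3, 4, 10],
    [0, 1, 2, 3, 4],
    [0, 1, 2, 3, 4, 10, 11],
    [0, 1, 2, 3, 4, 11],
    [0, 1, 2, 3, 6, 7, 11],
    [0, 1, 2, 3, 6, 7, 10, 11],
    [0, 1, 2, 3, 6, 7],
    [0, 1, 2, 3, 6, 7, 10],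
    [0, 1, 2, 3, 5, 7],
    [0, 1, 2, 3, 5, 7, 10],
    [0, 1, 2, 3, 5, 7, 11],
    [0, 1, 2, 3, 5, 7, 10, 11],
    [0, 1, 2, 3, 4, 5, 6, 8, 10],
    [0, 1, 2, 3, 4, 5, 6, 8],
    [0, 1, 2, 3, 4, 5, 6, 8, 10, 11],
    [0, 1, 2, 3, 4, 5, 6, 8, 11],
    [0, 1, 2, 3, 4, 8, 10, 11],
    [0, 1, 2, 3, 4, 8, 11],
    [0, 1, 2, 3, 4, 8, 10],
    [0, 1, 2, 3, 4, 8],
    [0, 1, 2, 3, 6, 7, 8],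
    [0, 1, 2, 3, 6, 7, 8, 10],
    [0, 1, 2, 3, 6, 7, 8, 11],
    [0, 1, 2, 3, 6, 7, 8, 10, 11],
    [0, 1, 2, 3, 5, 7, 8, 11],
    [0, 1, 2, 3, 5, 7, 8, 10, 11],
    [0, 1, 2, 3, 5, 7, 8],
    [0, 1, 2, 3, 5, 7, 8, 10]]

/-- Conjugation data. -/
def conj2 : List Conj :=
   [(0, [3, 10, 11], [2, 3, 11]),
    (0, [2, 3, 4, 5, 6, 9, 10], [4, 5, 6, 9, 11]),
    (0, [2, 3, 5, 6, 7, 8, 10, 11], [5, 6, 7, 8]),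
    (0, [2, 3, 4, 5, 6, 9], [2, 4, 5, 6, 9, 11]),
    (0, [3, 5, 6, 7, 8, 11], [2, 5, 6, 7, 8, 10]),
    (0, [2, 5, 6, 7, 8, 10, 11], [5, 6, 7, 8, 11]),
    (1, [1, 8, 9, 10, 11], [4, 5, 7, 9]),
    (1, [4, 5, 7, 8, 10, 11], [1]),
    (1, [4, 6, 7, 8, 9, 10, 11], [0, 1, 8, 11]),
    (1, [0, 8, 11], [5, 6, 9]),
    (2, [2, 5, 6, 7, 8, 10, 11], [4, 6, 7, 8, 9, 10, 11]),
    (2, [2, 3, 4, 5, 6, 7, 9, 10], [3, 6, 7]),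
    (2, [3, 4, 5, 7, 10], [2, 4, 7, 8, 10]),
    (2, [3, 7, 9], [5, 7, 9, 10]),
    (2, [2, 8, 11], [2, 8, 10, 11]),
    (2, [3, 4, 6, 7, 9, 11], [5, 6, 7, 8, 9, 10]),
    (2, [2, 3, 4, 5, 7, 8, 9], [3, 4, 7, 11]),
    (2, [2, 3, 4, 8, 10, 11], [4, 9, 10])]

/-- Equations between tails. -/
def cert2 : Cert where
  eqns := [.cons [2, 1, 0] 0 1,
    .cons [3, 1, 0] 0 1,
    .cons [3, 2, 0] 0 1,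
    .cons [3, 2, 1] 0 1,
    .cons [4, 1, 0] 0 1,
    .cons [4, 2, 0] 0 1,
    .cons [4, 2, 1] 0 1,
    .cons [4, 3, 0] 0 1,
    .cons [4, 3, 1] 0 1,
    .cons [4, 3, 2] 0 1,
    .cons [5, 1, 0] 0 1,
    .cons [5, 2, 0] 0 1,
    .cons [5, 2, 1] 0 1,
    .cons [5, 3, 0] 0 1,
    .cons [5, 3, 1] 0 1,
    .cons [5, 3, 2] 0 1,
    .cons [5, 4, 0] 0 1,
    .cons [5, 4, 1] 0 1,
    .cons [5, 4, 2] 0 1,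
    .cons [5, 4, 3] 0 1,
    .cons [6, 1, 0] 0 1,
    .cons [6, 2, 0] 0 1,
    .cons [6, 2, 1] 0 1,
    .cons [6, 3, 0] 0 1,
    .cons [6, 3, 1] 0 1,
    .cons [6, 4, 0] 0 1,
    .cons [6, 4, 1] 0 1,
    .cons [6, 4, 2] 0 1,
    .cons [6, 4, 3] 0 1,
    .cons [6, 5, 0] 0 1,
    .cons [6, 5, 1] 0 1,
    .cons [6, 5, 3] 0 1,
    .cons [7, 1, 0] 0 1,
    .cons [7, 2, 0] 0 1,
    .cons [7, 2, 1] 0 1,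
    .cons [7, 3, 0] 0 1,
    .cons [7, 3, 1] 0 1,
    .cons [7, 4, 0] 0 1,
    .cons [7, 4, 1] 0 1,
    .cons [7, 5, 0] 0 1,
    .cons [7, 5, 1] 0 1,
    .cons [7, 6, 0] 0 1,
    .cons [8, 3, 0] 0 1,
    .cons [8, 3, 1] 0 1,
    .cons [8, 4, 0] 0 1,
    .cons [8, 4, 3] 0 1,
    .cons [8, 5, 1] 0 1,
    .cons [2, 2, 0] 0 1,
    .cons [2, 0, 0] 0 1,
    .cons [2, 2, 1] 0 1,
    .cons [2, 1, 1] 0 1,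
    .cons [3, 3, 0] 0 1,
    .cons [3, 0, 0] 0 1,
    .cons [3, 3, 1] 0 1,
    .cons [3, 1, 1] 0 1,
    .cons [4, 4, 1] 0 1,
    .cons [5, 5, 1] 0 1,
    .fus [0, 1, 2, 3, 4, 5] [0, 0] [],
    .fus [0, 1, 2, 3, 4, 5] [1, 0] [0, 1],
    .fus [0, 1, 2, 3, 4, 5] [1, 1] [],
    .fus [0, 1, 2, 3, 4, 5] [2, 0] [0, 2],
    .fus [0, 1, 2, 3, 4, 5] [2, 1] [1, 2],
    .fus [0, 1, 2, 3, 4, 5] [3, 0] [0, 3],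
    .fus [0, 1, 2, 3, 4, 5] [5, 1] [1, 5],
    .fus [6, 7, 8, 9] [0, 0] [],
    .fus [6, 7, 8, 9] [2, 1] [1, 2],
    .fus [6, 7, 8, 9] [2, 2] [],
    .fus [6, 7, 8, 9] [1, 0, 1, 2] [0, 3, 2, 3],
    .fus [10, 11, 12, 13, 14, 15, 16, 17] [0, 0] []]
  free := 1
  combo := [[2, 3, 4, 5, 6, 9, 14, 16, 17, 19, 32, 37, 40, 41, 42, 49, 51, 55, 56, 60, 61, 63, 64, 66],
    [],
    [3, 6, 7, 8, 9, 11, 12, 15, 16, 17, 18, 19, 22, 24, 25, 30, 31, 32, 34, 36, 37, 38, 45, 46, 47, 51, 53, 55, 58, 62, 63, 64, 65],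
    [],
    [],
    [6, 21, 25, 26, 27, 57, 58, 62],
    [],
    [],
    [9, 58, 62],
    [6, 7, 11, 14, 15, 21, 24, 25, 26, 34, 35, 39, 40, 57, 58, 59, 61, 63],
    [1, 2, 3, 5, 7, 10, 13, 14, 17, 18, 20, 22, 32, 34, 36, 38, 40, 42, 43, 44, 49, 50, 51, 52, 56, 60, 61, 63, 65, 66, 67],
    [],
    [1, 2, 3, 5, 7, 10, 13, 14, 16, 17, 20, 22, 32, 34, 36, 38, 40, 42, 43, 44, 47, 48, 49, 50, 51, 52, 56, 60, 61, 63, 65, 66, 67],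
    [3, 5, 6, 7, 9, 11, 13, 14, 15, 16, 18, 19, 23, 25, 26, 27, 28, 29, 33, 34, 39, 41, 42, 43, 44, 45, 47, 51, 56, 57, 61, 62, 63, 68],
    [1, 2, 3, 5, 6, 7, 10, 13, 14, 17, 18, 20, 21, 22, 25, 26, 27, 32, 34, 36, 38, 40, 42, 43, 44, 48, 49, 50, 51, 52, 56, 60, 61, 63, 65, 66, 67],
    [1, 2, 3, 6, 7, 9, 10, 11, 12, 15, 16, 18, 21, 23, 27, 28, 29, 31, 32, 33, 35, 36, 38, 39, 43, 46, 48, 49, 50, 51, 57, 61, 63, 66, 67, 68],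
    [],
    [2, 3, 6, 8, 11, 12, 14, 16, 18, 19, 24, 25, 26, 27, 30, 37, 39, 41, 42, 45, 47, 51, 56, 57, 61, 62, 63, 68],
    [1, 2, 3, 6, 7, 9, 10, 11, 12, 15, 18, 19, 21, 23, 27, 28, 29, 31, 32, 33, 35, 36, 38, 39, 43, 46, 48, 49, 50, 52, 57, 61, 63, 66, 67, 68],
    [5, 7, 8, 12, 13, 16, 18, 23, 24, 27, 29, 30, 31, 33, 34, 37, 43, 44],
    [1, 2, 3, 6, 10, 12, 14, 16, 18, 21, 23, 24, 28, 29, 31, 32, 33, 34, 36, 38, 40, 43, 46, 48, 49, 50, 51, 52, 57, 61, 63, 66, 67, 68],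
    [0, 6, 16, 18, 26, 44],
    [1, 5, 7, 8, 10, 11, 13, 15, 16, 17, 19, 20, 21, 22, 23, 24, 31, 32, 34, 36, 37, 38, 39, 40, 41, 42, 43, 44, 45, 48, 52, 57, 60, 65, 66, 67, 68],
    [1, 5, 8, 10, 13, 17, 19, 20, 21, 22, 23, 24, 28, 32, 34, 36, 37, 38, 39, 40, 41, 42, 43, 44, 45, 48, 49, 50, 52, 57, 60, 65, 66, 67, 68],
    [1, 2, 5, 6, 8, 10, 11, 13, 16, 17, 18, 20, 21, 25, 26, 27, 28, 32, 33, 35, 37, 38, 39, 42, 44, 47, 48, 49, 50, 51, 52, 56, 58, 61, 63, 65, 66, 67],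
    [6, 16, 18, 26],
    [6, 7, 8, 9, 11, 12, 14, 15, 16, 18, 19, 21, 25, 26, 28, 29, 30, 33, 35, 37, 39, 40, 42, 43, 44],
    [1, 5, 6, 7, 8, 10, 11, 13, 15, 16, 17, 19, 20, 22, 23, 24, 25, 26, 27, 31, 32, 34, 36, 37, 38, 39, 40, 41, 42, 43, 44, 45, 48, 50, 52, 57, 60, 65, 66, 67, 68],
    [1, 7, 8, 9, 12, 17, 18, 19, 20, 21, 24, 25, 26, 29, 30, 31, 33, 36, 37, 39, 40, 42, 43, 65],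
    [3, 5, 6, 9, 11, 13, 15, 16, 17, 18, 19, 20, 21, 24, 28, 29, 30, 33, 34, 36, 44, 46, 47, 51, 53, 54, 56, 57, 58, 60, 62, 63, 65, 68],
    [1, 2, 3, 5, 6, 8, 9, 10, 11, 13, 16, 17, 18, 19, 20, 21, 22, 25, 26, 27, 28, 31, 32, 33, 34, 35, 36, 37, 39, 42, 43, 47, 48, 49, 50, 51, 52, 56, 58, 61, 63, 65, 66, 67],
    [3, 5, 6, 9, 11, 13, 17, 20, 21, 29, 30, 31, 33, 36, 44, 46, 47, 51, 56, 57, 58, 60, 62, 63, 65, 68],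
    [7, 11, 12, 15, 16, 19, 23, 24, 28, 30, 31, 33, 34, 37, 38, 42, 43, 44],
    [9, 11, 20, 21, 23, 24, 25, 26, 29, 31, 36, 37, 38, 39, 40, 42, 43, 44, 46, 65],
    [8, 12, 15, 16, 22, 23, 24, 27, 28, 29, 30, 33, 36, 37, 43, 44],
    [3, 5, 6, 7, 13, 14, 16, 17, 18, 19, 20, 21, 27, 28, 29, 30, 33, 35, 36, 39, 40, 44, 46, 47, 51, 53, 56, 57, 58, 60, 62, 63, 65, 68],
    [4, 7, 11, 15, 18, 22, 27, 28, 31, 44],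
    [5, 20, 22, 44],
    [],
    [],
    [5, 25, 27],
    [5, 7, 8, 9, 11, 12, 13, 16, 23, 24, 28, 30, 31, 33, 34, 37, 43],
    [7, 11, 15, 16, 22, 26, 27, 28, 31],
    [7, 8, 9, 11, 12, 16, 19, 22, 23, 24, 28, 30, 31, 33, 34, 36, 37, 38, 42, 43, 44],
    [5, 7, 11, 15, 18, 22, 25, 28, 31, 55],
    [8, 9, 10, 12, 17, 19, 23, 27, 28, 30, 31, 33, 36, 38, 44, 46],
    [7, 8, 11, 12, 13, 17, 18, 19, 23, 30, 32, 33, 36, 38, 44, 46],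
    [6, 7, 8, 11, 14, 15, 16, 17, 21, 24, 25, 26, 27, 28, 29, 33, 34, 35, 38, 39, 40, 46],
    [9, 11, 14, 16, 19, 20, 21, 23, 24, 25, 26, 29, 31, 36, 37, 38, 39, 42, 43, 44, 46, 65],
    [5, 7, 8, 9, 11, 12, 13, 16, 17, 23, 24, 28, 30, 31, 33, 34, 37, 43, 46],
    [7, 9, 11, 13, 15, 24, 27, 34, 39],
    [15, 17, 18, 19, 22, 24, 27, 30, 34, 36, 37, 38, 42, 43, 44, 46],
    [7, 9, 11, 16, 18, 19, 27, 28, 31, 36, 40],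
    [46],
    [13, 15, 18, 24, 28, 31, 34, 36, 39, 56],
    [5, 7, 11, 15, 18, 27, 28, 31],
    [7, 11, 15, 18, 22, 27, 28, 31],
    [7, 11, 15, 18, 27, 28, 31],
    [8, 12, 18, 23, 24, 28, 29, 30, 33, 34, 37, 43, 44],
    [16, 18],
    [7, 8, 11, 12, 15, 19, 23, 24, 28, 30, 31, 33, 34, 37, 42, 43],
    [7, 11, 15, 16, 28, 31],
    [7, 8, 11, 12, 18, 23, 30, 33, 37, 38, 42, 44],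
    [44],
    [7, 8, 11, 12, 15, 17, 18, 19, 23, 24, 28, 29, 31, 33, 34, 38, 41, 42, 43, 44, 45],
    [6, 21, 25, 26, 27],
    [5, 9, 13, 15],
    [9, 15, 22, 36],
    [8, 12, 15, 18, 19, 23, 24, 27, 29, 30, 31, 33, 34, 37, 43, 44],
    [7, 8, 9, 11, 12, 23, 24, 27, 29, 30, 31, 33, 34, 37, 43, 44],
    [7, 8, 9, 11, 12, 18, 23, 24, 27, 30, 33, 34, 37, 42, 43],
    [7, 8, 11, 12, 15, 16, 23, 24, 28, 30, 31, 33, 34, 37, 42, 43],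
    [7, 9, 11, 27, 29, 42, 44],
    [7, 8, 11, 12, 15, 16, 19, 23, 24, 28, 30, 31, 33, 34, 37, 38, 42, 44],
    [7, 8, 9, 11, 12, 18, 23, 24, 27, 30, 33, 34, 37, 42, 43, 45],
    [15, 24, 28, 29, 30, 31, 34, 41, 42, 43, 45, 46],
    [9, 15, 19, 27, 28, 31],
    [6, 7, 11, 14, 19, 21, 24, 25, 26, 27, 28, 31, 34, 35, 39, 40]]

/-- The certificate. -/
def tab2 : TableCert where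
  P := pc2
  ews := [[0, 1, 2, 1, 0, 1, 2, 1, 0, 2, 0, 1, 2, 1, 0, 1, 2, 1, 0],
    [1, 2, 1, 2, 0, 1, 2, 1, 0, 2, 1, 2, 1, 2, 0, 2, 1, 2, 1, 2, 0, 1, 2, 1, 0],
    [2, 0, 1, 0, 2, 0, 1, 2, 0, 1, 0, 2, 1, 0, 2, 0, 1, 0, 2, 1, 0, 1, 0, 1],
    [1, 2, 0, 1, 0, 2, 1, 0, 2, 0, 1, 0, 2, 0, 1, 2, 0, 1, 0, 2],
    [0, 2, 1, 0, 2, 1, 2, 1, 0, 1, 0, 1, 2, 1, 2, 0, 1, 2, 1, 0, 1, 2, 0, 1, 2, 0, 1, 0, 2],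
    [0, 1, 0, 2, 1, 2, 1, 0, 1, 0, 1, 0, 1, 2, 1, 2, 0, 1, 2, 1, 0, 2, 1, 0, 2, 0, 1, 2, 1, 0],
    [0, 2, 1, 0, 1, 0, 2, 1, 2, 1, 0, 2, 1, 0, 2, 1, 2, 1, 0, 1, 0, 2, 1, 2, 1, 0, 2, 1, 2],
    [0, 1, 2, 1, 2, 0, 2, 1, 0, 1, 2, 1, 2, 0, 2, 0, 1, 0, 2, 1, 0, 1, 2, 0, 2, 1, 2, 0, 1, 0],
    [2, 1, 2, 1, 0, 2, 1, 2, 0, 2, 1, 0, 2, 1, 2, 0, 1, 2, 0, 2, 1, 2, 0],
    [0, 1, 0, 1, 2, 0, 1, 2, 0, 2, 0, 1, 2, 1, 2, 1, 2, 0, 2, 0, 1, 0, 2, 1, 0, 1, 0],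
    [2, 1, 2, 1, 2, 1, 2, 0, 2, 0, 1, 0, 1, 0, 1, 2, 0, 1, 0, 2, 1, 0, 1, 0, 1, 0, 2, 0],
    [1]]
  gws := [[1, 0, 1, 0, 1, 0, 1, 2, 1, 2, 0, 1, 2, 1, 2, 1, 0, 2, 1, 2, 1, 0, 1, 0, 1, 0, 1],
    [2, 1, 0, 1, 2, 0, 2, 1, 2, 1, 0, 1, 0, 2, 1, 0, 1, 0, 1, 0, 1, 0, 2, 1, 0, 1, 0, 2, 1, 2, 0],
    [1, 0, 1, 2, 1, 2, 1, 0, 1, 0, 2, 1, 2, 0, 2, 1, 0, 2, 1, 2, 0, 1, 2, 1, 2, 1, 0, 1, 2, 0]]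
  C := conj2
  K := cert2
  els := els2

theorem tab2_rel : tab2.chkRel actA [1, 4, 16, 64, 256, 1024] = true := by decide +kernel

theorem tab2_card : tab2.chkCard actA [1, 4, 16, 64, 256, 1024] = true := by decide +kernel

theorem tab2_tails : tab2.K.check tab2.P tab2.C = true := by decide +kernel

theorem sylow2 : Nonempty (SylowOne G4 2) :=
  TableCert.sylowOne homA (by decide +kernel) det card_G4 rfl (by decide) tab2_rel tab2_card tab2_tails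
    (j := 1) (i := 0) (by decide +kernel) rfl rfl rfl (by decide +kernel)

end Cfsg.Agent.Lie.G2FourMult
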