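import Cfsg.Agent.Lib.Grp.SchurM.TailTable
import Cfsg.Agent.Lib.Lie.Chev.G2FourMult.Two

/-! A Sylow 3-subgroup of the group G₂(4) with equations for the tails. -/

set_option autoImplicit false
set_option maxRecDepth 100000
set_option maxHeartbeats 8000000

open Cfsg.Agent.Grp.SchurM.Tails

namespace Cfsg.Agent.Lie.G2FourMult

/-- Presentation of the Sylow 3-subgroup. -/
def pc3 : PC where
  p := 3
  n := 3
  rhs := [[],
    [0, 1, 2],
    [],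
    [0, 2],
    [1, 2],
    []]
  defs := [(2, 1, 0)]

/-- Elements of the Sylow 3-subgroup. -/
def els3 : List (List ℕ) :=
   [[0, 2],
    [1, 1, 2, 2],
    [1, 2],
    [0, 1],
    [0, 0, 1, 1],
    [],
    [0, 0, 1, 1, 2],
    [0, 0],
    [0, 0, 1],
    [0, 0, 1, 1, 2, 2],
    [0, 1, 1, 2, 2],
    [0, 2, 2],
    [0, 0, 1, 2],
    [2],
    [0, 0, 2, 2],
    [0],
    [1, 1],
    [0, 1, 1],
    [1, 1, 2],
    [0, 0, 2],
    [1, 2, 2],
    [0, 1, 1, 2],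
    [2, 2],
    [0, 1, 2],
    [0, 0, 1, 2, 2],
    [1],
    [0, 1, 2, 2]]

/-- Conjugation data. -/
def conj3 : List Conj :=
   [(0, [1, 1, 2], [1, 2]),
    (0, [0, 0, 1, 1, 2], [0, 1, 2])]

/-- Equations between tails. -/
def cert3 : Cert where
  eqns := [.cons [1, 1, 1, 0] 0 2,
    .fus [0, 1] [0, 0, 0] [],
    .fus [0, 1] [1, 1, 1] [],
    .fus [0, 1] [1, 0, 0, 1] [0, 1, 1, 0],
    .fus [0, 1] [1, 0, 1, 0] [0, 0, 1, 1]]
  free := 6
  combo := [[1, 1, 2, 3],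
    [],
    [1],
    [4],
    [0, 0, 3, 4],
    [0, 0]]

/-- The certificate. -/
def tab3 : TableCert where
  P := pc3
  ews := [[1, 2, 1, 2, 0, 1, 2, 1, 2, 0, 1, 0, 1, 2, 0, 2, 1, 0, 1, 2, 1, 0, 2, 1, 2, 0, 1, 0],
    [2, 0, 1, 0, 2, 0, 2, 1, 0, 2, 1, 2, 1, 0, 2, 1, 2, 0, 2, 1, 2, 0, 2],
    [2, 1, 0, 1, 2, 0, 1, 2, 0, 1, 2, 1, 2, 1, 0, 2, 1, 0, 2, 0, 1, 2, 0, 1, 0, 2, 1, 0]]
  gws := [[0, 2, 0, 1, 0, 1, 2, 0, 1, 0, 2, 1, 0, 2, 1, 2, 0, 2, 1, 0, 2, 1, 2, 0, 2, 1, 0, 1, 0, 1]]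
  C := conj3
  K := cert3
  els := els3

theorem tab3_rel : tab3.chkRel actA [1, 4, 16, 64, 256, 1024] = true := by decide +kernel

theorem tab3_card : tab3.chkCard actA [1, 4, 16, 64, 256, 1024] = true := by decide +kernel

theorem tab3_tails : tab3.K.check tab3.P tab3.C = true := by decide +kernel

theorem sylow3 : Nonempty (SylowCert G4 3) :=
  TableCert.sylowCert homA (by decide +kernel) det card_G4 rfl (by decide) tab3_rel tab3_card tab3_tails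
    (le_of_eq rfl) (by decide +kernel)

end Cfsg.Agent.Lie.G2FourMult
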