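import Cfsg.Agent.Lib.Grp.SchurM.TailTable
import Cfsg.Agent.Lib.Lie.Chev.G2FourMult.Two

/-! A Sylow 5-subgroup of the group G₂(4) with equations for the tails. -/

set_option autoImplicit false
set_option maxRecDepth 100000
set_option maxHeartbeats 8000000

open Cfsg.Agent.Grp.SchurM.Tails

namespace Cfsg.Agent.Lie.G2FourMult

/-- Presentation of the Sylow 5-subgroup. -/
def pc5 : PC where
  p := 5
  n := 2
  rhs := [[],
    [0, 1],
    []]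
  defs := []

/-- Elements of the Sylow 5-subgroup. -/
def els5 : List (List ℕ) :=
   [[0, 0],
    [0, 1],
    [0, 0, 0, 0, 1, 1, 1],
    [0, 0, 1, 1, 1, 1],
    [0, 1, 1],
    [],
    [0, 1, 1, 1, 1],
    [0, 0, 0, 0, 1],
    [0, 0, 0, 1, 1, 1, 1],
    [0, 0, 1, 1],
    [0, 0, 0, 1],
    [0, 0, 0, 0],
    [1, 1],
    [0, 0, 0, 1, 1],
    [1, 1, 1],
    [0, 0, 0, 0, 1, 1, 1, 1],
    [0, 0, 0, 1, 1, 1],
    [0, 0, 0, 0, 1, 1],
    [1, 1, 1, 1],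
    [0, 1, 1, 1],
    [1],
    [0, 0, 0],
    [0, 0, 1, 1, 1],
    [0, 0, 1],
    [0]]

/-- Conjugation data. -/
def conj5 : List Conj :=
   [(0, [1], [1, 1, 1, 1]),
    (1, [1, 1, 1], [1, 1, 1]),
    (1, [0, 1], [0, 0, 0, 0, 1, 1])]

/-- Equations between tails. -/
def cert5 : Cert where
  eqns := [.fus [0] [0, 0, 0, 0, 0] [],
    .fus [1, 2] [1, 0] [0, 1],
    .fus [1, 2] [1, 1, 1, 1, 1] []]
  free := 3
  combo := [[0, 0, 0, 0, 2, 2, 2],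
    [1, 1, 1, 1],
    [0, 0, 0]]

/-- The certificate. -/
def tab5 : TableCert where
  P := pc5
  ews := [[0, 1, 0, 2, 1, 2, 1, 0, 1, 2, 1, 0, 2, 1, 0, 2, 1, 0, 2, 1, 2, 1, 2, 1, 0],
    [0, 1, 0, 1, 0, 1, 0, 2, 1, 2, 1, 2, 0, 1, 2, 0, 1, 2, 1, 2, 0, 1, 0, 1, 0, 1, 0]]
  gws := [[1, 2, 0, 2, 0, 1, 0, 2, 0, 1, 2, 1, 0, 2, 1, 2, 0, 2, 0, 1, 0],
    [1, 2, 1, 2, 0, 1, 2, 0, 2, 1, 0, 2, 0, 2, 1, 0, 2, 0, 1, 2, 0, 2, 0, 1, 0, 1, 0, 2, 0]]
  C := conj5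
  K := cert5
  els := els5

theorem tab5_rel : tab5.chkRel actA [1, 4, 16, 64, 256, 1024] = true := by decide +kernel

theorem tab5_card : tab5.chkCard actA [1, 4, 16, 64, 256, 1024] = true := by decide +kernel

theorem tab5_tails : tab5.K.check tab5.P tab5.C = true := by decide +kernel

theorem sylow5 : Nonempty (SylowCert G4 5) :=
  TableCert.sylowCert homA (by decide +kernel) det card_G4 rfl (by decide) tab5_rel tab5_card tab5_tails
    (le_of_eq rfl) (by decide +kernel)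

end Cfsg.Agent.Lie.G2FourMult
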