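import Cfsg.Agent.Lib.Grp.SchurM.TailTable
import Cfsg.Agent.Lib.Lie.Chev.G2FourMult.Two

/-! A Sylow 7-subgroup of the group G₂(4) with equations for the tails. -/

set_option autoImplicit false
set_option maxRecDepth 100000
set_option maxHeartbeats 8000000

open Cfsg.Agent.Grp.SchurM.Tails

namespace Cfsg.Agent.Lie.G2FourMult

/-- Presentation of the Sylow 7-subgroup. -/
def pc7 : PC where
  p := 7
  n := 1
  rhs := [[]]
  defs := []

/-- Elements of the Sylow 7-subgroup. -/
def els7 : List (List ℕ) :=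
   [[0],
    [0, 0],
    [0, 0, 0, 0, 0],
    [],
    [0, 0, 0, 0],
    [0, 0, 0, 0, 0, 0],
    [0, 0, 0]]

/-- Conjugation data. -/
def conj7 : List Conj :=
   [(0, [0, 0], [0, 0, 0])]

/-- Equations between tails. -/
def cert7 : Cert where
  eqns := [.fus [0] [0, 0, 0, 0, 0, 0, 0] []]
  free := 1
  combo := [[0, 0, 0, 0, 0, 0]]

/-- The certificate. -/
def tab7 : TableCert where
  P := pc7
  ews := [[0, 2, 1, 0, 2, 1, 0, 1, 2, 1, 0, 1, 0, 1, 2, 1, 2, 1, 2, 1, 0, 1, 0, 1, 2, 0, 1]]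
  gws := [[0, 2, 1, 0, 2, 0, 1, 2, 0, 2, 1, 0, 2, 0, 1, 0, 1, 0, 2, 0, 1, 0, 2, 0, 1, 2, 1, 0]]
  C := conj7
  K := cert7
  els := els7

theorem tab7_rel : tab7.chkRel actA [1, 4, 16, 64, 256, 1024] = true := by decide +kernel

theorem tab7_card : tab7.chkCard actA [1, 4, 16, 64, 256, 1024] = true := by decide +kernel

theorem tab7_tails : tab7.K.check tab7.P tab7.C = true := by decide +kernel

theorem sylow7 : Nonempty (SylowCert G4 7) :=
  TableCert.sylowCert homA (by decide +kernel) det card_G4 rfl (by decide) tab7_rel tab7_card tab7_tails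
    (le_of_eq rfl) (by decide +kernel)

end Cfsg.Agent.Lie.G2FourMult
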