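import Cfsg.Agent.Lib.Lie.Chev.G2FourMult.Tail2
import Cfsg.Agent.Lib.Lie.Chev.G2FourMult.Tail3
import Cfsg.Agent.Lib.Lie.Chev.G2FourMult.Tail5
import Cfsg.Agent.Lib.Lie.Chev.G2FourMult.Tail7
import Cfsg.Agent.Lib.Lie.Chev.G2FourMult.Tail13
import Cfsg.Agent.Lib.Lie.Chev.G2FourMult.Lines
import Cfsg.Agent.Lib.Grp.SchurM.SylowBounds

/-! The multiplier of `G₂(4)` is cyclic of order two. -/

set_option autoImplicit false
set_option maxRecDepth 100000
set_option linter.style.haveILetI false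

open Cfsg Cfsg.Agent.Spor.Cos Cfsg.Agent.Grp.SchurM Cfsg.Agent.Grp.SchurM.Tails

namespace Cfsg.Agent.Lie.G2FourMult

universe u

instance : Finite G4 := Nat.finite_of_card_ne_zero (by rw [card_G4]; norm_num)

/-- Stem kernels are generated by an element of order dividing two. -/
theorem exists_gen {Δ : Type u} [Group Δ] [Finite Δ] (σ : Δ →* G4) (hσ : Cfsg.IsStemExtension σ) :
    ∃ c ∈ σ.ker, c ^ 2 = 1 ∧ σ.ker ≤ Subgroup.zpowers c := by
  obtain ⟨S⟩ := sylow2
  refine exists_gen_of_one Nat.prime_two S (fun q hq hne hd => ?_) σ hσ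
  rw [card_G4, show 251596800 = 2 ^ 12 * 3 ^ 3 * 5 ^ 2 * 7 * 13 by norm_num] at hd
  have key : ∀ r : ℕ, r.Prime → q ∣ r → q = r := fun r hr h => (Nat.prime_dvd_prime_iff_eq hq hr).1 h
  rcases (Nat.Prime.dvd_mul hq).1 hd with hd | h13
  · rcases (Nat.Prime.dvd_mul hq).1 hd with hd | h7
    · rcases (Nat.Prime.dvd_mul hq).1 hd with hd | h5
      · rcases (Nat.Prime.dvd_mul hq).1 hd with h2 | h3
        · exact absurd (key 2 Nat.prime_two (hq.dvd_of_dvd_pow h2)) hne
        · obtain rfl := key 3 Nat.prime_three (hq.dvd_of_dvd_pow h3)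
          exact sylow3
      · obtain rfl := key 5 (by norm_num) (hq.dvd_of_dvd_pow h5)
        exact sylow5
    · obtain rfl := key 7 (by norm_num) h7
      exact sylow7
  · obtain rfl := key 13 (by norm_num) h13
    exact sylow13

theorem multiplier {F : Type u} [Field F] [Fintype F] (hF : Fintype.card F = 4) :
    Cfsg.HasCyclicSchurMultiplier ↥(Cfsg.Lie.chevG2.group F) 2 := by
  obtain ⟨e⟩ := exists_equiv hF
  exact SpinPull.multiplier e exists_cover fun Δ _ _ σ hσ => by
    obtain ⟨c, hc, hc2, hle⟩ := exists_gen σ hσ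
    exact exists_surjective_zmod _ c hc hc2 hle

end Cfsg.Agent.Lie.G2FourMult
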